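import Cfsg.Agent.T33.DiaA

/-!
# The diamond is impossible
-/

set_option autoImplicit false

namespace Cfsg.Lib.T33

open Subgroup Cfsg.Lib.Trans
open scoped commutatorElement

universe u

variable {G : Type u} [Group G]

namespace W13

theorem zp4 {e x : G} (h : e * e * (e * e) = 1) (hx : x ∈ zpowers e) :
    x = 1 ∨ x = e * e ∨ x * x = e * e := by
  obtain ⟨n, rfl⟩ := mem_zpowers_iff.1 hx
  have h4 : e ^ (4 : ℤ) = 1 := by
    rw [← h, ← zpow_two, ← zpow_two, ← zpow_mul]; rfl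
  rw [zpow_eq_zpow_emod n h4]
  have : n % 4 = 0 ∨ n % 4 = 1 ∨ n % 4 = 2 ∨ n % 4 = 3 := by omega
  rcases this with k | k | k | k <;> rw [k]
  · exact Or.inl (zpow_zero e)
  · exact Or.inr (Or.inr (by rw [zpow_one]))
  · exact Or.inr (Or.inl (zpow_two e))
  · refine Or.inr (Or.inr ?_)
    calc e ^ (3 : ℤ) * e ^ (3 : ℤ) = e ^ (4 : ℤ) * (e * e) := by group
      _ = _ := by rw [h4, one_mul]

/-- The Sylow subgroup. -/
def Tt (s : Fin 4 → G) (e : G) : Subgroup G := Qq s ⊔ zpowers e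

variable {P : Subgroup G} {s : Fin 4 → G} {e : G} {k l : Fin 4}

theorem Q_le_T : Qq s ≤ Tt s e := le_sup_left

theorem e_mem_T : e ∈ Tt s e := mem_sup_right (mem_zpowers e)

namespace Dm

variable [Finite G] (d : Dm P s e k l)
include d

omit [Finite G] in
theorem iQ : e * e ∉ Qq s := fun h => d.iv.not_Ce d.hy d.F (d.hV 0)
  (centralizer_le (le_sup_left (b := Vs (s 1))) (d.Q_le_CZ h))

omit [Finite G] in
theorem decT {t : G} (ht : t ∈ Tt s e) : ∃ q ∈ Qq s, ∃ x ∈ zpowers e, t = q * x :=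
  (mem_sup_nm (zpowers_le_of_mem d.eQ)).1 ht

omit [Finite G] in
theorem invT {t : G} (ht : t ∈ Tt s e) (h2 : t * t = 1) (n : t ∉ Qq s) :
    ∃ q ∈ Qq s, t = q * (e * e) := by
  obtain ⟨q, hq, x, hx, rfl⟩ := d.decT ht
  rcases zp4 d.iv.sq hx with rfl | rfl | h
  · exact absurd (by rwa [mul_one]) n
  · exact ⟨q, hq, rfl⟩
  · refine absurd ?_ d.iQ
    have m := mul_mem hq (mem_normalizer_conj (zpowers_le_of_mem d.eQ hx) hq)
    have : q * (x * q * x⁻¹) * (x * x) = 1 := by rw [← h2]; group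
    rw [← h, eq_inv_of_mul_eq_one_right this]
    exact inv_mem m

omit [Finite G] in
theorem mulT {u v : G} (hu : u ∈ Tt s e) (hv : v ∈ Tt s e) (u2 : u * u = 1) (v2 : v * v = 1)
    (nu : u ∉ Qq s) (nv : v ∉ Qq s) : u * v ∈ Qq s := by
  obtain ⟨q, hq, rfl⟩ := d.invT hu u2 nu
  obtain ⟨r, hr, rfl⟩ := d.invT hv v2 nv
  have : q * (e * e) * (r * (e * e)) = q * (e * e * r * (e * e)⁻¹) * (e * e * (e * e)) := by
    generalize e * e = i
    group
  rw [this, d.iv.sq, mul_one]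
  exact mul_mem hq (mem_normalizer_conj d.nmi.2.2 hr)

theorem pgT : IsPGroup 2 (Tt s e) :=
  d.pgQ.to_sup_of_normal_left' (fun x => ⟨2, Subtype.ext (by
    rcases zp4 d.iv.sq x.2 with h | h | h
    · simp [h]
    · rw [coe_pow, h, show 2 ^ 2 = 2 * 2 from rfl, pow_mul, sq (e * e), d.iv.sq, one_pow, coe_one]
    · rw [coe_pow, show 2 ^ 2 = 2 * 2 from rfl, pow_mul, sq (x : G), h, sq, d.iv.sq, coe_one])⟩)
    (zpowers_le_of_mem d.eQ)

theorem le_B {A : Subgroup G} (hA : ∀ a ∈ A, a * a = 1) (h : A ≤ Qq s) :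
    A ≤ Bb s k ∨ A ≤ Bb s l := le_or_le fun y hy => d.inv_mem_B (h hy) (hA y hy)

theorem big {A : Subgroup G} (hA : El A 64) (h : A ≤ Tt s e) : A ≤ Qq s := by
  by_contra hh
  obtain ⟨j, hj, nj⟩ := SetLike.not_le_iff_exists.1 hh
  obtain ⟨q, hq, rfl⟩ := d.invT (h hj) (hA.sq j hj) nj
  have h1 := card_le_two_mul (X := A) (Y := Qq s) fun a ha b hb =>
    d.mulT (h ha) (h hb) (hA.sq a ha) (hA.sq b hb)
  have h2 : A ⊓ Qq s ≤ Cs (q * (e * e)) := fun a ha => mem_Cs.2 (hA.comm a ha.1 _ hj)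
  rw [hA.card] at h1
  rcases d.le_B (A := A ⊓ Qq s) (fun a ha => hA.sq a ha.1) inf_le_right with k | k
  · have := (Trans.card_le_of_le (le_inf k h2)).trans (d.fix_B hq)
    omega
  · have := (Trans.card_le_of_le (le_inf k h2)).trans (d.symm.fix_B hq)
    omega

theorem sylT : IsSylowIn 2 (Tt s e) ⊤ := by
  refine isSylowIn_of_maximal le_top d.pgT fun S hS h1 _ => ?_
  by_contra hh
  obtain ⟨x, hx, nx⟩ := SetLike.exists_of_lt (lt_inf_normalizer hS (lt_of_le_not_ge h1 hh))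
  have b : ∀ {A : Subgroup G}, El A 64 → A ≤ Qq s → cj x A ≤ Qq s := fun hA h =>
    d.big (hA.conj x) ((cj_mono x (h.trans Q_le_T)).trans (cj_eq_of_mem_normalizer hx.2).le)
  have xQ : x ∈ Nm (Qq s) := mem_normalizer_of_cj_le (by
    conv_lhs => rw [d.Q_eq, cj_sup]
    exact sup_le (b d.elB B_le_Q) ((cj_mono x V_le_B).trans (b d.symm.elB B_le_Q)))
  have iT : e * e ∈ Tt s e := mul_mem e_mem_T e_mem_T
  have key : ∀ y ∈ S, y ∈ Nm (Vs (s 0)) → y ∈ Tt s e := fun y hy hn => by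
    obtain ⟨q, hq, p, hp, h⟩ := d.F.norm_V d.hy d.iv (d.hV 0) hn
    have qT : q ∈ Tt s e := Q_le_T (Q0_le_Q 0 hq)
    have pS : p ∈ S := by
      rcases h with rfl | rfl
      · exact (mul_mem_cancel_left (h1 qT)).1 hy
      · exact (mul_mem_cancel_left (h1 qT)).1 ((mul_mem_cancel_right (h1 iT)).1 hy)
    obtain ⟨n, hn⟩ := hS ⟨p, pS⟩
    have p1 : p = 1 := by
      by_contra p1
      have := orderOf_dvd_of_pow_eq_one (show p ^ 2 ^ n = 1 from congrArg Subtype.val hn)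
      rw [d.F.ord_of_mem hp p1] at this
      exact absurd (Nat.prime_three.dvd_of_dvd_pow this) (by norm_num)
    rcases h with rfl | rfl <;> rw [p1, mul_one]
    exacts [qT, mul_mem qT iT]
  rcases d.nmQ xQ with h | h
  · exact nx (key x hx.1 h)
  · exact nx ((mul_mem_cancel_left e_mem_T).1 (key _ (mul_mem (h1 e_mem_T) hx.1) h))

theorem star {B : Subgroup G} {a : G} (hc : Ce B ≤ B) (h8 : Nat.card (B ⊓ Cs a : Subgroup G) ≤ 8)
    (g : G) (h1 : B ≤ cj g (Qq s)) (h2 : a ∈ cj g (Qq s)) : False := by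
  have k : cj g (Zz s) ≤ Ce (cj g (Qq s)) := by
    rw [Ce, ← cj_centralizer]; exact cj_mono g (Ce_symm d.Q_le_CZ)
  have := Trans.card_le_of_le (le_inf (k.trans ((centralizer_le h1).trans hc))
    (show cj g (Zz s) ≤ Cs a from fun z hz => mem_Cs.2 (mem_Ce.1 (k hz) a h2).symm))
  rw [card_cj, d.elZ.card] at this
  omega

section End

variable {B : Subgroup G} {a : G} (hB : El B 64) (a2 : a * a = 1) (ha : a ∈ Nm B) (hc : Ce B ≤ B)
  (h8 : Nat.card (B ⊓ Cs a : Subgroup G) ≤ 8)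
include hB a2 ha hc h8

theorem caseA (h1 : B ⊓ Cs a ≤ Bb s k) (h2 : a ∈ Bb s k) : False := by
  have le : (B ⊓ Cs a) ⊔ zpowers a ≤ Bb s k := sup_le h1 (zpowers_le_of_mem h2)
  have n1 : Bb s k ≤ Nm ((B ⊓ Cs a) ⊔ zpowers a) :=
    (d.elB.le_Ce.trans (centralizer_le le)).trans (Ce_le_Nm _)
  have n2 : B ≤ Nm ((B ⊓ Cs a) ⊔ zpowers a) := fun c hcB => mem_normalizer_of_cj_le (by
    rw [cj_sup, cj_zpowers, cj_eq_of_mem_centralizer (centralizer_le inf_le_left (hB.le_Ce hcB))]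
    refine sup_le le_sup_left (zpowers_le_of_mem ?_)
    have m := mem_normalizer_conj ha (inv_mem hcB)
    have ai : a⁻¹ = a := inv_eq_of_mul_eq_one_right a2
    have e1 : c * a * c⁻¹ = c * (a * c⁻¹ * a⁻¹) * a := by group
    rw [e1]
    refine mul_mem_sup ⟨mul_mem hcB m, mem_Cs.2 ?_⟩ (mem_zpowers a)
    rw [← e1, hB.comm c hcB _ m, hB.inv_eq hcB, ai]
    calc c * a * c = a * a * c * a * c := by rw [a2, one_mul]
      _ = _ := by simp only [mul_assoc])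
  obtain ⟨S, hS, le2⟩ := exists_isSylowIn_ge hB.pgroup n2
  obtain ⟨x, hx, le3⟩ := hS.exists_cj_le d.elB.pgroup n1
  obtain ⟨g, -, le4⟩ := d.sylT.exists_cj_le hS.isPGroup le_top
  have k1 := d.big (hB.conj g) ((cj_mono g le2).trans le4)
  have k2 := d.big ((d.elB.conj x).conj g) ((cj_mono g le3).trans le4)
  refine d.star hc h8 g⁻¹ (cj_le_iff_le_cj_inv.1 k1) (cj_le_iff_le_cj_inv.1 k2 (cj_mono x le ?_))
  rw [cj_eq_of_mem_normalizer hx]
  exact mem_sup_right (mem_zpowers a)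

theorem caseB (hT : B ⊓ Cs a ≤ Tt s e) {u : G} (hu : u ∈ B ⊓ Cs a) (nu : u ∉ Qq s)
    (h1 : B ⊓ Cs a ⊓ Qq s ≤ Bb s k) (h2 : a ∈ Bb s k) : False := by
  have u2 := hB.sq u hu.1
  have c0 : u * a = a * u := mem_Cs.1 hu.2
  have o : ∀ {x : G} {A : Subgroup G}, x * x = 1 → x * x ∈ Ce A := fun h => h ▸ one_mem _
  obtain ⟨q, hq, eq⟩ := d.invT (hT hu) u2 nu
  have f8 := d.fix_B hq
  rw [← eq] at f8
  obtain ⟨b, hb, b2⟩ := d.elB.exists_comm (j := u) (eq ▸ mul_mem (d.Q_nm_B hq) (d.nmi.2.1 k)) (o u2)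
    (Nat.pow_le_pow_left f8 2) h2 c0.symm
  obtain ⟨c, hcB, c1⟩ := hB.exists_comm ha (o a2) (Nat.pow_le_pow_left h8 2) hu.1 c0
  have h64 := hB.le_sq_fix ha (o a2)
  have a1 : a ≠ 1 := by
    rintro rfl
    have : B ⊓ Cs 1 = B := inf_eq_left.2 fun x _ => mem_Cs.2 (by simp)
    rw [this, hB.card] at h8
    omega
  have h3 := three_dvd a2 u2 c0.symm a1 (fun h => nu (h ▸ one_mem _))
    (fun h => nu (h ▸ B_le_Q h2)) (by rw [d.elB.comm b hb a h2, mul_inv_cancel_right])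
    (b2.trans c0.symm) (c1.trans c0) (by rw [hB.comm c hcB u hu.1, mul_inv_cancel_right])
  obtain ⟨y, -, y3, hy⟩ := d.hy.exists_three h3
  have le : B ⊓ Cs a ⊓ Qq s ≤ Vs y := fun v hv => hy v
    (Commute.mul_right (d.elB.comm v (h1 hv) b hb) (hB.comm v hv.1.1 c hcB)) (hB.sq v hv.1.1)
  have h4 := card_le_two_mul (X := B ⊓ Cs a) (Y := Qq s) fun x hx y hy =>
    d.mulT (hT hx) (hT hy) (hB.sq x hx.1) (hB.sq y hy.1)
  have eq2 := eq_of_le_of_card_ge le ((d.hy.card_le y3).trans (by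
    by_contra hh
    have : Nat.card (B ⊓ Cs a : Subgroup G) ^ 2 ≤ 6 ^ 2 := Nat.pow_le_pow_left (by omega) 2
    omega))
  obtain ⟨g, -, m, eV, -⟩ := d.F.exists_cj_V le_top (mem_top y) y3
  have key : ∀ t, t * t = 1 → t ∈ Ce (B ⊓ Cs a ⊓ Qq s) → t ∈ cj g (Qq s) := fun t t2 ht => by
    rw [eq2, eV, Ce, ← cj_centralizer, mem_cj] at ht
    refine mem_cj.2 (Q0_le_Q m (d.F.mem_Q0 d.hy d.iv (d.hV m) ht fun h => ?_))
    have : (g⁻¹ * t * g) ^ 2 = 1 := by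
      calc _ = g⁻¹ * (t * t) * g := by rw [sq]; group
        _ = 1 := by rw [t2]; group
    exact absurd (h.trans (orderOf_dvd_of_pow_eq_one this)) (by norm_num)
  exact d.star hc h8 g (fun t ht => key t (hB.sq t ht) (mem_Ce.2 fun x hx => hB.comm x hx.1.1 t ht))
    (key a a2 (mem_Ce.2 fun x hx => mem_Cs.1 hx.1.2))

theorem endgame (hT : B ⊓ Cs a ≤ Tt s e) (aQ : a ∈ Qq s) : False := by
  have ai : a⁻¹ = a := inv_eq_of_mul_eq_one_right a2
  have k0 : (B ⊓ Cs a ⊓ Qq s ≤ Bb s k ∧ a ∈ Bb s k) ∨ (B ⊓ Cs a ⊓ Qq s ≤ Bb s l ∧ a ∈ Bb s l) := by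
    have := d.le_B (A := (B ⊓ Cs a ⊓ Qq s) ⊔ zpowers a) (fun x hx => by
      have cz : zpowers a ≤ Ce (B ⊓ Cs a ⊓ Qq s) :=
        zpowers_le_of_mem (mem_Ce.2 fun x hx => mem_Cs.1 hx.1.2)
      obtain ⟨y, hy, w, hw, rfl⟩ := (mem_sup_nm (cz.trans (Ce_le_Nm _))).1 hx
      have w2 : w * w = 1 := by
        obtain ⟨n, rfl⟩ := mem_zpowers_iff.1 hw
        rw [← (Commute.refl a).mul_zpow, a2, one_zpow]
      rw [mul_assoc, ← mul_assoc w, ← mem_Ce.1 (cz hw) y hy, mul_assoc, w2, mul_one,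
        hB.sq y hy.1.1]) (sup_le inf_le_right (zpowers_le_of_mem aQ))
    exact this.imp (fun h => ⟨le_sup_left.trans h, h (mem_sup_right (mem_zpowers a))⟩)
      fun h => ⟨le_sup_left.trans h, h (mem_sup_right (mem_zpowers a))⟩
  by_cases h : B ⊓ Cs a ≤ Qq s
  · rw [inf_eq_left.2 h] at k0
    exact k0.elim (fun k => d.caseA hB a2 ha hc h8 k.1 k.2) fun k =>
      d.symm.caseA hB a2 ha hc h8 k.1 k.2
  · obtain ⟨u, hu, nu⟩ := SetLike.not_le_iff_exists.1 h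
    exact k0.elim (fun k => d.caseB hB a2 ha hc h8 hT hu nu k.1 k.2) fun k =>
      d.symm.caseB hB a2 ha hc h8 hT hu nu k.1 k.2

end End

theorem false (hG : commutator G = ⊤) : False := by
  obtain ⟨g, -, h1, h2⟩ := thompson_transfer_involution (H := Tt s e) (T := Qq s)
    (by simpa using d.sylT.not_dvd) (fun x' hx' y' hy' => by
      obtain ⟨q, hq, x, hx, rfl⟩ := d.decT hx'
      obtain ⟨r, hr, y, hy, rfl⟩ := d.decT hy'
      have c : x * y = y * x := comm_of_mem_zpowers hy (comm_of_mem_zpowers hx rfl).symm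
      have : ⁅q * x, r * y⁆ = q * (x * r * x⁻¹) * (x * y * x⁻¹ * q⁻¹ * y⁻¹) * r⁻¹ := by
        rw [commutatorElement_def]; group
      rw [this, c, mul_inv_cancel_right]
      have n := zpowers_le_of_mem d.eQ
      exact mul_mem (mul_mem (mul_mem hq (mem_normalizer_conj (n hx) hr))
        (mem_normalizer_conj (n hy) (inv_mem hq))) (inv_mem hr))
    (fun x hx => by
      obtain ⟨n, hn⟩ := d.pgT ⟨x, hx⟩
      exact ⟨n, by rw [show x ^ 2 ^ n = 1 from congrArg Subtype.val hn]; exact one_mem _⟩)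
    (e * e) (orderOf_eq_prime (by rw [sq, d.iv.sq]) fun h => d.iQ (h ▸ one_mem _))
    (fun u hu v hv u2 v2 => d.mulT hu hv (by rw [← sq, ← u2, pow_orderOf_eq_one])
      (by rw [← sq, ← v2, pow_orderOf_eq_one]))
    (mem_sup_left (hG ▸ mem_top _)) (Bb s k ⊓ Cs (e * e)) (d.elB.pgroup.to_le inf_le_left)
    fun r hr => mem_Cs.1 hr.2
  have eC : cj g⁻¹ (Bb s k) ⊓ Cs (g⁻¹ * (e * e) * g) = cj g⁻¹ (Bb s k ⊓ Cs (e * e)) := by
    rw [cj_inf, cj_centralizer_set, Set.image_singleton, inv_inv]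
  refine d.endgame (d.elB.conj g⁻¹) (a := g⁻¹ * (e * e) * g) ?_ ?_ ?_ ?_ ?_ h1
  · calc _ = g⁻¹ * (e * e * (e * e)) * g := by group
      _ = 1 := by rw [d.iv.sq]; group
  · rw [Nm, ← cj_normalizer]
    exact mem_cj_inv.2 (by simpa [mul_assoc] using d.nmi.2.1 k)
  · rw [Ce, ← cj_centralizer]; exact cj_mono _ d.cent_B
  · rw [eC, card_cj]
    simpa using d.fix_B (one_mem _)
  · rw [eC]
    exact cj_le_iff.2 fun t ht => by simpa using h2 t ht

end Dm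

end W13

theorem diamond [Finite G] [IsSimpleGroup G] {P : Subgroup G} {s : Fin 4 → G} {e : G}
    (hG : ¬ IsMulCommutative G) (h : Hy G) (F : Fr P s) (he : Sw P s e)
    (hV : ∀ k, Vs (s k) ≠ ⊥) (a0 : ∀ k, Vs (s k) ≤ Ce (Vs (s 0)))
    (a1 : ∀ k, Vs (s k) ≤ Ce (Vs (s 1))) (n23 : ¬ Vs (s 2) ≤ Ce (Vs (s 3))) : False :=
  W13.Dm.false (k := 2) (l := 3) ⟨h, F, he.iv, hV, a0, a1, n23, by decide, F.cj_V he.s0, F.cj_V he.s1,
    F.cj_V he.s2, F.cj_V he.s3⟩ (CITCor.commutator_eq_top_of_simple hG)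

end Cfsg.Lib.T33
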