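import Cfsg.Agent.T33.Std2

/-!
# Weak closure of the `E₁₆` when it is an isolated edge
-/

set_option autoImplicit false

namespace Cfsg.Lib.T33

open Subgroup Cfsg.Lib.Trans

universe u

variable {G : Type u} [Group G] [Finite G]

namespace K2a

section Four

variable {Z : Subgroup G} {r g z w : G}

/-- A fixed point free element of order three is transitive on a four-group. -/
theorem trans4 (h4 : Nat.card Z = 4) (hr : r ∈ Nm Z) (r3 : r ^ 3 = 1)
    (fp : ∀ x ∈ Z, x * r = r * x → x = 1) (hz : z ∈ Z) (z1 : z ≠ 1) (hw : w ∈ Z) (w1 : w ≠ 1) :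
    ∃ s ∈ zpowers r, s * z * s⁻¹ = w := by
  have e : r = r⁻¹ * r⁻¹ := by
    rw [← one_mul (r⁻¹ * r⁻¹), ← r3]
    simp only [pow_succ]
    group
  have n1 : z ≠ r * z * r⁻¹ := fun e => z1 (fp z hz (eq_mul_inv_iff_mul_eq.1 e))
  have n2 : z ≠ r⁻¹ * z * r := fun e => z1 (fp z hz (by
    rw [mul_assoc, eq_inv_mul_iff_mul_eq] at e
    exact e.symm))
  have n3 : r * z * r⁻¹ ≠ r⁻¹ * z * r := fun e' => n2 (by
    calc z = r⁻¹ * (r * z * r⁻¹) * r := by group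
      _ = r⁻¹ * r⁻¹ * z * (r⁻¹ * r⁻¹)⁻¹ := by rw [e']; simp [mul_assoc]
      _ = _ := by rw [← e, e'])
  rcases four_cases h4.le hz (mem_normalizer_conj hr hz) (mem_normalizer_conj' hr hz) z1
    (by simpa using z1) (by simpa using (conj_eq_one_iff (a := r⁻¹)).not.2 z1) n1 n2 n3 hw with rfl | rfl | rfl | rfl
  exacts [absurd rfl w1, ⟨1, one_mem _, by group⟩, ⟨r, mem_zpowers r, rfl⟩,
    ⟨r⁻¹, inv_mem (mem_zpowers r), by group⟩]

theorem cent4 (h4 : Nat.card Z = 4) (hr : r ∈ Nm Z) (r3 : r ^ 3 = 1)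
    (fp : ∀ x ∈ Z, x * r = r * x → x = 1) (hz : z ∈ Z) (z1 : z ≠ 1) (c1 : r * g = g * r)
    (c2 : z * g = g * z) : g ∈ Ce Z := mem_Ce.2 fun w hw => by
  by_cases w1 : w = 1
  · simp [w1]
  obtain ⟨s, hs, rfl⟩ := trans4 h4 hr r3 fp hz z1 hw w1
  have c3 : Commute s g := (comm_of_mem_zpowers hs c1.symm).symm
  exact ((c3.mul_left c2).mul_left c3.inv_left).eq

theorem exists_cent (h4 : Nat.card Z = 4) (hr : r ∈ Nm Z) (r3 : r ^ 3 = 1)
    (fp : ∀ x ∈ Z, x * r = r * x → x = 1) (hg : g ∈ Nm Z) (c : r * g = g * r) :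
    ∃ s ∈ zpowers r, s * g ∈ Ce Z := by
  obtain ⟨⟨z, hz⟩, z1⟩ := (ne_bot_iff_exists_ne_one (H := Z)).1 fun e => by simp [e] at h4
  replace z1 : z ≠ 1 := fun e => z1 (Subtype.ext e)
  obtain ⟨s, hs, e⟩ := trans4 h4 hr r3 fp (mem_normalizer_conj hg hz) (by simpa using z1) hz z1
  refine ⟨s, hs, cent4 h4 hr r3 fp hz z1 ?_ ?_⟩
  · rw [← mul_assoc, comm_of_mem_zpowers hs rfl, mul_assoc, c, mul_assoc]
  · calc z * (s * g) = s * (g * z * g⁻¹) * s⁻¹ * (s * g) := by rw [e]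
      _ = _ := by group

end Four

variable {A B : Subgroup G} {ψ : Nm A →* Equiv.Perm (Fin 6)}

theorem not_cent (hy : Hy G) (h : Std A (Nm A) ψ) (k : K2D A) (hB : El B 16) (ne : B ≠ A)
    (h4 : Nat.card (A ⊓ B : Subgroup G) = 4) {s : G} (hs : s ∈ Nm A) (s3 : orderOf s = 3) :
    s ∉ Ce (A ⊓ B) := fun hc => by
  have le : A ⊓ B ≤ Vs s := fun z hz => (hy.mem s s3 z).2 ⟨mem_Ce.1 hc z hz, h.el.sq z hz.1⟩
  have e : A ⊓ B = Vs s := eq_of_le_of_card_ge le (h4 ▸ hy.card_le s3)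
  have k1 := (k.k1 s hs s3 fun e' => by
    rw [← e, ← inf_assoc, inf_idem] at e'
    simp [e'] at h4).2
  refine S2.El.not_le h.el hB ne fun b hb => ?_
  obtain ⟨a, ha, t, ht, e'⟩ := (mem_sup_nm (zpowers_le.2 hs)).1
    (k1 (e ▸ mem_Ce.2 fun z (hz : z ∈ A ⊓ B) => hB.comm _ hz.2 _ hb : b ∈ Ce (Vs s)))
  have t3 : t ^ 3 = 1 := by
    obtain ⟨n, rfl⟩ := ht
    rw [← zpow_natCast, ← zpow_mul, mul_comm, zpow_mul, zpow_natCast, cube_of_ord s3, one_zpow]
  have l := ((S2.pr_one h).2 ha).mul (S2.pr ψ (zpowers_le.2 hs ht))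
  rw [← e', one_mul] at l
  have l3 := (l.pow 3).congr (κ := 1) (by
    rw [← map_pow]
    exact (congrArg ψ (Subtype.ext t3)).trans (map_one ψ))
  rw [pow_succ, sq, hB.sq b hb, one_mul] at l3
  exact (S2.pr_one h).1 l3

/-- A Sylow `3`-subgroup of the normaliser. -/
theorem exists_nine (hy : Hy G) (h : Std A (Nm A) ψ) {Q : Subgroup G} (hQ : IsPGroup 3 Q)
    (le : Q ≤ Nm A) : ∃ P s, Fr P s ∧ Q ≤ P ∧ P ≤ Nm A := by
  have : Fact (Nat.Prime 3) := ⟨Nat.prime_three⟩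
  obtain ⟨P, hP, hQP⟩ := exists_isSylowIn_ge hQ le
  have := hP.card_eq
  rw [h.card, show (5760 : ℕ).factorization 3 = 2 by
    rw [Nat.factorization_def _ Nat.prime_three]; decide +kernel] at this
  obtain ⟨s, F⟩ := hy.exists_Fr this
  exact ⟨P, s, F, hQP, hP.le⟩

theorem not_swap (hy : Hy G) (h : Std A (Nm A) ψ) (k : K2D A) (hB : El B 16) (hBN : B ≤ Nm A)
    (ne : B ≠ A) {x : G} (hA : cj x A = B) (hx : cj x B = A) : False := by
  have : Fact (Nat.Prime 3) := ⟨Nat.prime_three⟩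
  obtain ⟨h4, ce, hAN, -, r, m, r3, rA, rB, fp, mA, mB, hm⟩ := h.two hB hBN ne
  have rZ := nm_inf rA rB
  have r3' := cube_of_ord r3
  have fZ : ∀ z ∈ A ⊓ B, z * r = r * z → z = 1 := fun z hz => fp z (mem_sup_left hz.1)
  have rp : IsPGroup 3 (zpowers r) := Std1.pgroup_zpowers (k := 1) (by simpa using r3')
  have nn : ∀ p ∈ Nm A, p ^ 3 = 1 → r * p = p * r → p ∈ Nm (A ⊓ B) → p ∈ zpowers r :=
    fun p pA p3 c pZ => by
      obtain ⟨s, hs, e⟩ := exists_cent h4 rZ r3' fZ pZ c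
      by_contra hp
      have c1 : Commute s p := (comm_of_mem_zpowers hs c.symm).symm
      have s3 : s ^ 3 = 1 := by
        obtain ⟨n, rfl⟩ := hs
        rw [← zpow_natCast, ← zpow_mul, mul_comm, zpow_mul, zpow_natCast, r3', one_zpow]
      exact not_cent hy h k hB ne h4 (mul_mem (zpowers_le.2 rA hs) pA)
        (ord_three (by rw [c1.mul_pow, s3, p3, one_mul]) fun e =>
          hp ((mul_mem_cancel_left hs).1 (e ▸ one_mem _))) e
  obtain ⟨n, nA, nB, c⟩ : ∃ n, cj n A = B ∧ cj n B = A ∧ r * n = n * r := by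
    obtain ⟨T, hT, le⟩ := exists_isSylowIn_ge (H := Nm A ⊓ Nm B) rp (zpowers_le.2 ⟨rA, rB⟩)
    obtain ⟨P, s, F, hP, -⟩ := exists_nine hy h hT.isPGroup (hT.le.trans inf_le_left)
    obtain ⟨l, hl, e⟩ := hT.exists_cj_le (isPGroup_cj rp x) (by
      rw [cj_zpowers, zpowers_le]
      refine ⟨?_, ?_⟩
      · rw [← hx, Nm, ← cj_normalizer]
        exact conj_mem_cj.2 rB
      · rw [← hA, Nm, ← cj_normalizer]
        exact conj_mem_cj.2 rA)
    have m1 : l * x * r * (l * x)⁻¹ ∈ T := by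
      rw [cj_cj] at e
      exact e (conj_mem_cj.2 (mem_zpowers r))
    have a1 : cj (l * x) A = B := by rw [cj_mul, hA, cj_eq_of_mem_normalizer hl.2]
    have a2 : cj (l * x) B = A := by rw [cj_mul, hx, cj_eq_of_mem_normalizer hl.1]
    rcases mem_zpowers_three r3 (nn _ (hT.le m1).1 (F.cube (hP m1))
      (F.comm _ (hP (le (mem_zpowers r))) _ (hP m1)) (nm_inf (hT.le m1).1 (hT.le m1).2)) with
      e | e | e
    · exact absurd (conj_eq_one_iff.1 e) (ne_one_of_ord r3)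
    · exact ⟨_, a1, a2, (mul_inv_eq_iff_eq_mul.1 e).symm⟩
    · refine ⟨m * (l * x), by rw [cj_mul, a1, cj_eq_of_mem_normalizer mB],
        by rw [cj_mul, a2, cj_eq_of_mem_normalizer mA], ?_⟩
      calc r * (m * (l * x)) = (m * r * m⁻¹)⁻¹ * (m * (l * x)) := by rw [hm, inv_inv]
        _ = m * r⁻¹ * (l * x) := by group
        _ = _ := by rw [← e]; group
  have yV := hy.cube r r3 n c.symm
  have yA : cj (n ^ 3) A = B := by simp only [pow_succ, pow_zero, one_mul, cj_mul, nA, nB]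
  have yB : cj (n ^ 3) B = A := by simp only [pow_succ, pow_zero, one_mul, cj_mul, nA, nB]
  generalize n ^ 3 = y at yV yA yB
  have y2 := hy.sq r3 yV
  have yr := hy.comm r3 yV
  have y1 : y ≠ 1 := fun e => ne (by rw [← yA, e, cj_one])
  have yZ : y ∈ Ce (A ⊓ B) := by
    obtain ⟨s, hs, e⟩ := exists_cent h4 rZ r3' fZ
      (cj_eq_self_iff.1 (by rw [cj_inf, yA, yB, inf_comm])) yr.symm
    have c1 : Commute s y := (comm_of_mem_zpowers hs yr).symm
    have s3 : s ^ 3 = 1 := by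
      obtain ⟨n, rfl⟩ := hs
      rw [← zpow_natCast, ← zpow_mul, mul_comm, zpow_mul, zpow_natCast, r3', one_zpow]
    have := pow_mem e 3
    rwa [c1.mul_pow, s3, one_mul, pow_succ, sq, y2, one_mul] at this
  obtain ⟨P, s, F, rP, hP⟩ := exists_nine hy h rp (zpowers_le.2 rA)
  obtain ⟨p, pP, hp⟩ := SetLike.not_le_iff_exists.1 fun e : P ≤ zpowers r => by
    have := Subgroup.card_le_of_le e
    rw [F.card, Nat.card_zpowers, r3] at this
    omega
  have pr := F.comm _ (rP (mem_zpowers r)) _ pP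
  obtain ⟨a, ha, aZ⟩ := SetLike.not_le_iff_exists.1 fun e : cj p (A ⊓ B) ≤ A ⊓ B =>
    hp (nn p (hP pP) (F.cube pP) pr (mem_normalizer_of_cj_le e))
  have aA : a ∈ A := cj_eq_of_mem_normalizer (hP pP) ▸ cj_mono p inf_le_left ha
  have aB : a ∉ B := fun e => aZ ⟨aA, e⟩
  have y'V : p * y * p⁻¹ ∈ Vs r := mem_normalizer_conj (nm_V_of_comm pr.symm) yV
  have c1 : Commute a (p * y * p⁻¹) := by
    have := mem_Ce.1 yZ _ (mem_cj.1 ha)
    calc a * (p * y * p⁻¹) = p * (p⁻¹ * a * p * y) * p⁻¹ := by group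
      _ = _ := by rw [this]; group
  have hV := hy.el r3 fun e => y1 (mem_bot.1 (e ▸ yV))
  have c2 : Commute y (p * y * p⁻¹) := hV.comm _ yV _ y'V
  have bB : y * a * y⁻¹ ∈ B := yA ▸ conj_mem_cj.2 aA
  have bA : y * a * y⁻¹ ∉ A := fun e => aB (conj_mem_cj.1 (yB ▸ e))
  have c3 : Commute (y * a * y⁻¹) (p * y * p⁻¹) := (c2.mul_left c1).mul_left c2.inv_left
  generalize hb : y * a * y⁻¹ = b at bB bA c3
  have y'Z : p * y * p⁻¹ ∈ Ce (A ⊓ B) := cent4 h4 rZ r3' fZ (z := a * b * a⁻¹ * b⁻¹)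
    ⟨by simpa [mul_assoc] using mul_mem aA (mem_normalizer_conj (hBN bB) (inv_mem aA)),
      B.mul_mem (mem_normalizer_conj (hAN aA) bB) (inv_mem bB)⟩
    (fun e => aZ ((ce b bB bA).le ⟨aA, mem_Cs.2 (by
      rwa [mul_inv_eq_one, mul_inv_eq_iff_eq_mul] at e)⟩)) (hy.comm r3 y'V).symm
    (((c1.mul_left c3).mul_left c1.inv_left).mul_left c3.inv_left).eq
  have e := S2.eq_of_two (H := Vs r ⊓ Ce (A ⊓ B)) inf_le_left hV.card ⟨yV, yZ⟩ ⟨y'V, y'Z⟩ y1
    (by simpa using y1) fun e => bA (by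
      rw [← e] at c1
      rwa [← hb, ← c1.eq, mul_inv_cancel_right])
  have k2 := k.k2 r rA r3 (eq_bot_iff.2 fun v hv => fp v (mem_sup_left hv.1) (hy.comm r3 hv.2))
    fun e => y1 (mem_bot.1 (e ▸ yV))
  have : A ⊓ B = ⊥ := eq_bot_iff.2 (k2 ▸ le_inf inf_le_left (Ce_symm (inf_eq_left.1 e)))
  simp [this] at h4

end K2a

variable {A : Subgroup G} {ψ : Nm A →* Equiv.Perm (Fin 6)}

theorem Std.wc (hy : Hy G) (h : Std A (Nm A) ψ) (k : K2D A) (g : G) (hg : cj g A ≤ Nm A) :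
    cj g A = A := by
  by_contra ne
  have hB := h.el.conj g
  obtain ⟨T, hT, le⟩ := exists_isSylowIn_ge (H := Nm A)
    (IsPGroup.to_sup_of_normal_left' h.el.pgroup hB.pgroup hg) (sup_le le_normalizer hg)
  have hTB : cj g⁻¹ T ≤ Nm A := by
    rw [cj_inv_le_iff_le_cj, cj_normalizer]
    intro t ht
    refine cj_eq_self_iff.1 (h.uniq hT.isPGroup hT.le (hB.conj t) hB
      (cj_le_of_mem_of_le ht (le_sup_right.trans le)) (le_sup_right.trans le) (fun e => ne ?_) ne)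
    exact cj_injective t (e.trans (cj_eq_of_mem_normalizer (hT.le ht)).symm)
  obtain ⟨n, hn, e⟩ := hT.exists_cj_le (isPGroup_cj hT.isPGroup _) hTB
  have e1 : cj (n * g⁻¹) (cj g A) = A := by rw [cj_mul, cj_inv_cj, cj_eq_of_mem_normalizer hn]
  refine K2a.not_swap hy h k hB hg ne (h.uniq hT.isPGroup hT.le (h.el.conj _) hB ?_
    (le_sup_right.trans le) (fun e => ne (cj_injective _ (e1.trans e.symm))) ne) e1
  rw [cj_mul]
  exact (cj_mono _ (cj_mono _ (le_sup_left.trans le))).trans e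

theorem Std.fact_top (hy : Hy G) (h : Std A (Nm A) ψ) (k : K2D A) :
    (Nat.card G).factorization 2 = 7 := by
  obtain ⟨S, hS⟩ := h.el.pgroup.exists_le_sylow
  have h1 := (isSylowIn_of_le S (le_Nm_of_wc (h.wc hy k) S.isPGroup' hS)).card_eq
  rw [h.fact, S.card_eq_multiplicity] at h1
  exact Nat.pow_right_injective le_rfl h1

end Cfsg.Lib.T33
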