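import Cfsg.Agent.T33.Basic
import Cfsg.Agent.T33.Std1
import Cfsg.Agent.T33.Std3a

/-!
# Point stabiliser in `2⁴ A₆`: a subgroup of index two
-/

set_option autoImplicit false

namespace Cfsg.Lib.T33

open Subgroup Cfsg.Lib.Trans Stab

universe u

variable {G : Type u} [Group G] [Finite G] {A N : Subgroup G} {ψ : N →* Equiv.Perm (Fin 6)}

namespace Stab

omit [Finite G] in
theorem lift (h : Std A N ψ) {p : Equiv.Perm (Fin 6)} (hp : p ∈ alternatingGroup (Fin 6)) :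
    ∃ g : N, ψ g = p := by
  rw [← h.range] at hp
  exact hp

omit [Finite G] in
theorem conj_mem (h : Std A N ψ) (g : N) {a : G} (ha : a ∈ A) : (g : G) * a * (g : G)⁻¹ ∈ A :=
  (mem_normalizer_iff.1 (h.nrm g.2) a).1 ha

omit [Finite G] in
theorem not_mem (h : Std A N ψ) {y : N} (hy : ψ y ∈ JS) : (y : G) ∉ A :=
  fun hA => JS_ne hy ((h.ker y).2 hA)

omit [Finite G] in
theorem sq_mem (h : Std A N ψ) {y : N} (hy : ψ y ∈ JS) : (y : G) * y ∈ A :=
  (h.ker (y * y)).1 (by rw [map_mul, JS_sq hy])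

theorem free' (h : Std A N ψ) {y : N} (hy : ψ y ∈ JS) :
    Nat.card (A ⊓ Cs (y : G) : Subgroup G) = 4 :=
  h.free (h.nrm y.2) (not_mem h hy) (sq_mem h hy)

/-- A non-identity element of `A` centralized by a Sylow `2`-subgroup. -/
theorem exists_z (h : Std A N ψ) :
    ∃ z ∈ A, z ≠ 1 ∧ ∀ g : N, ψ g * j1 = j1 * ψ g → z * g = g * z := by
  haveI : Fact (Nat.Prime 2) := ⟨Nat.prime_two⟩
  let T : Subgroup G := ((Cs j1).comap ψ).map N.subtype
  have hT : IsPGroup 2 T := by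
    rintro ⟨_, g, hg, rfl⟩
    refine ⟨3, Subtype.ext ?_⟩
    have h1 : ψ (g ^ 4) = 1 := by rw [map_pow]; exact cent_pow4 _ (mem_Cs.1 hg)
    have h2 := h.el.sq _ ((h.ker _).1 h1)
    change (g : G) ^ (2 ^ 3) = 1
    rw [show 2 ^ 3 = 4 + 4 from rfl, pow_add]
    exact h2
  have hTN : T ≤ Nm A := (map_subtype_le _).trans h.nrm
  have h1 := card_modEq hT hTN
  rw [h.el.card] at h1
  have h2 : (A ⊓ Ce T : Subgroup G) ≠ ⊥ := fun e => by
    rw [e, card_bot] at h1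
    exact absurd h1 (by decide)
  obtain ⟨⟨z, hz⟩, z1⟩ := ne_bot_iff_exists_ne_one.1 h2
  refine ⟨z, hz.1, fun e => z1 (Subtype.ext e), fun g hg => ?_⟩
  exact (mem_Ce.1 hz.2 g ⟨g, mem_Cs.2 hg, rfl⟩).symm

section Core

variable {z : G}

/-- The centralizer in `A` of the preimage of the four-group has order two. -/
theorem cent_R (h : Std A N ψ) (hz : z ∈ A) (z1 : z ≠ 1)
    (hc : ∀ g : N, ψ g * j1 = j1 * ψ g → z * g = g * z) {a : G} (ha : a ∈ A)
    (hca : ∀ g : N, ψ g ∈ JS → a * g = g * a) : a = 1 ∨ a = z := by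
  by_contra hne
  rw [not_or] at hne
  obtain ⟨y, hy⟩ := lift h j1_alt
  obtain ⟨y3, hy3⟩ := lift h j3_alt
  obtain ⟨r, hr⟩ := lift h rr_alt
  have yJ : ψ y ∈ JS := mem_JS.2 (Or.inl hy)
  have y3J : ψ y3 ∈ JS := mem_JS.2 (Or.inr (Or.inr hy3))
  let C : Subgroup G := A ⊓ centralizer {x : G | ∃ g : N, ψ g ∈ JS ∧ (g : G) = x}
  have memC : ∀ c, c ∈ A → (∀ g : N, ψ g ∈ JS → c * g = g * c) → c ∈ C := fun c h1 h2 =>
    ⟨h1, mem_centralizer_iff.2 (by rintro _ ⟨g, hg, rfl⟩; exact (h2 g hg).symm)⟩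
  have hle : C ≤ A ⊓ Cs (y : G) := fun c hc' =>
    ⟨hc'.1, mem_Cs.2 (mem_centralizer_iff.1 hc'.2 y ⟨y, yJ, rfl⟩).symm⟩
  have h4 := free' h yJ
  have h3 : 2 < Nat.card C := by
    haveI := Fintype.ofFinite C
    rw [Nat.card_eq_fintype_card, Fintype.two_lt_card_iff]
    refine ⟨1, ⟨z, memC z hz fun g hg => hc g (JS_comm hg)⟩, ⟨a, memC a ha hca⟩, ?_, ?_, ?_⟩
    · exact fun e => z1 (congrArg Subtype.val e).symm
    · exact fun e => hne.1 (congrArg Subtype.val e).symm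
    · exact fun e => hne.2 (congrArg Subtype.val e).symm
  have hd := card_dvd_of_le hle
  rw [h4] at hd
  have hC4 : Nat.card C = 4 := by
    have := Nat.le_of_dvd (by norm_num) hd
    interval_cases (Nat.card C)
    · exact absurd hd (by decide)
    · rfl
  have hCe : C = A ⊓ Cs (y : G) := eq_of_le_of_card_ge hle (by rw [h4, hC4])
  have h5 := hc (r⁻¹ * y * r) (by rw [map_mul, map_mul, map_inv, hy, hr]; exact rr_comm)
  have h6 : (r : G) * z * (r : G)⁻¹ ∈ C := by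
    rw [hCe]
    refine ⟨conj_mem h r hz, mem_Cs.2 ?_⟩
    have : z * ((r : G)⁻¹ * y * r) = (r : G)⁻¹ * y * r * z := h5
    calc (r : G) * z * (r : G)⁻¹ * y = r * (z * ((r : G)⁻¹ * y * r)) * (r : G)⁻¹ := by group
      _ = _ := by rw [this]; group
  have h7 : (y3 : G) * (r * z * (r : G)⁻¹) = r * z * (r : G)⁻¹ * y3 :=
    mem_centralizer_iff.1 h6.2 y3 ⟨y3, y3J, rfl⟩
  have h8 := hc y3 (JS_comm y3J)
  refine z1 (h.fpf (r⁻¹ * y3 * r * y3) ?_ z hz ?_)
  · rw [map_mul, map_mul, map_mul, map_inv, hy3, hr]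
    exact rr_three
  · change z * ((r : G)⁻¹ * y3 * r * y3) = (r : G)⁻¹ * y3 * r * y3 * z
    calc z * ((r : G)⁻¹ * y3 * r * y3) = (r : G)⁻¹ * (r * z * (r : G)⁻¹ * y3) * r * y3 := by group
      _ = (r : G)⁻¹ * y3 * r * (z * y3) := by rw [← h7]; group
      _ = _ := by rw [h8]; group

theorem cent_K (h : Std A N ψ) (hz : z ∈ A) (z1 : z ≠ 1)
    (hc : ∀ g : N, ψ g * j1 = j1 * ψ g → z * g = g * z) {g : N} (hg : ψ g ∈ normalizer JS) :
    (g : G) * z = z * g := by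
  have h1 := cent_R h hz z1 hc (conj_mem h g hz) fun y hy => by
    have h2 : ψ (g⁻¹ * y * g) ∈ JS := by
      rw [map_mul, map_mul, map_inv]
      exact (mem_set_normalizer_iff''.1 hg _).1 hy
    have h3 : z * ((g : G)⁻¹ * y * g) = (g : G)⁻¹ * y * g * z := hc _ (JS_comm h2)
    calc (g : G) * z * (g : G)⁻¹ * y = g * (z * ((g : G)⁻¹ * y * g)) * (g : G)⁻¹ := by group
      _ = _ := by rw [h3]; group
  rcases h1 with h1 | h1
  · exact absurd (by simpa using h1) z1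
  · exact mul_inv_eq_iff_eq_mul.1 h1

theorem relIndex_Cs (h : Std A N ψ) (hz : z ∈ A) (z1 : z ≠ 1) : (Cs z).relIndex N = 15 := by
  letI : MulAction N G := MulAction.compHom G (MulAut.conj.comp N.subtype)
  have hs : ∀ (g : N) (x : G), g • x = g * x * (g : G)⁻¹ := fun _ _ => rfl
  have h1 : (Cs z).subgroupOf N = MulAction.stabilizer N z := by
    ext g
    rw [mem_subgroupOf, mem_Cs, MulAction.mem_stabilizer_iff, hs, mul_inv_eq_iff_eq_mul]
  have h2 : MulAction.orbit N z = (A : Set G) \ {1} := by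
    ext x
    constructor
    · rintro ⟨g, rfl⟩
      refine ⟨conj_mem h g hz, fun e => z1 ?_⟩
      have : (g : G) * z * (g : G)⁻¹ = 1 := e
      simpa using this
    · rintro ⟨hx, x1⟩
      obtain ⟨n, hn, e⟩ := h.trans hz hx z1 x1
      exact ⟨⟨n, hn⟩, e⟩
  rw [relIndex, h1, MulAction.index_stabilizer, h2,
    Set.ncard_diff_singleton_of_mem (one_mem A : (1 : G) ∈ (A : Set G)), ← Nat.card_coe_set_eq]
  have : Nat.card (A : Set G) = 16 := h.el.card
  rw [this]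

theorem card_stab (h : Std A N ψ) (hz : z ∈ A) (z1 : z ≠ 1) :
    Nat.card (N ⊓ Cs z : Subgroup G) = 384 := by
  have h1 := card_mul_relIndex (inf_le_left : N ⊓ Cs z ≤ N)
  rw [inf_relIndex_left, relIndex_Cs h hz z1, h.card] at h1
  omega

theorem nrm_of_cent (h : Std A N ψ) (hz : z ∈ A) (z1 : z ≠ 1)
    (hc : ∀ g : N, ψ g * j1 = j1 * ψ g → z * g = g * z) {g : N} (hg : (g : G) ∈ Cs z) :
    ψ g ∈ normalizer JS := by
  have hle : (normalizer JS).comap ψ ≤ (Cs z).subgroupOf N := fun x hx =>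
    mem_subgroupOf.2 (mem_Cs.2 (cent_K h hz z1 hc hx))
  have h1 : ((normalizer JS).comap ψ).index ≤ 15 := by
    rw [index_comap, h.range]
    exact relIndex_nJ
  have h2 : ((Cs z).subgroupOf N).index = 15 := relIndex_Cs h hz z1
  have h3 := relIndex_mul_index hle
  have h4 : ((normalizer JS).comap ψ).index ≠ 0 := index_ne_zero_of_finite
  rw [h2] at h3
  have h5 : ((normalizer JS).comap ψ).relIndex ((Cs z).subgroupOf N) = 1 := by omega
  exact relIndex_eq_one.1 h5 (mem_subgroupOf.2 hg)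

/-- The involutions in the coset above `j`. -/
def Inv (ψ : N →* Equiv.Perm (Fin 6)) (j : Equiv.Perm (Fin 6)) : Set G :=
  {x | ∃ g : N, ψ g = j ∧ (g : G) = x ∧ x * x = 1}

theorem ncard_Inv (h : Std A N ψ) {j : Equiv.Perm (Fin 6)} (hj : j ∈ JS) :
    (Inv ψ j).ncard = 4 := by
  obtain ⟨y, hy⟩ := lift h (JS_alt hj)
  have yJ : ψ y ∈ JS := hy ▸ hj
  have hyy := sq_mem h yJ
  obtain ⟨a, ha, e⟩ := h.el.exists_comm (h.nrm y.2) (h.el.le_Ce hyy) (by rw [free' h yJ]; norm_num)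
    hyy (mul_assoc _ _ _)
  let x : N := ⟨a, h.le ha⟩ * y
  have hx : ψ x = j := by
    rw [map_mul, (h.ker ⟨a, h.le ha⟩).2 ha, one_mul, hy]
  have x2 : (x : G) * x = 1 := by
    change a * y * (a * y) = 1
    calc a * y * (a * y) = a * y * a⁻¹ * y := by rw [h.el.inv_eq ha]; group
      _ = y * y * (y * y) := by rw [e]; group
      _ = 1 := h.el.sq _ hyy
  have hI : Inv ψ j = (fun c => c * (x : G)) '' (A ⊓ Cs (x : G) : Subgroup G) := by
    ext t
    constructor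
    · rintro ⟨g, hg, rfl, g2⟩
      have h1 : (g : G) * (x : G)⁻¹ ∈ A :=
        (h.ker (g * x⁻¹)).1 (by rw [map_mul, map_inv, hg, hx, mul_inv_cancel])
      refine ⟨g * (x : G)⁻¹, ⟨h1, mem_Cs.2 ?_⟩, inv_mul_cancel_right _ _⟩
      have h2 := h.el.inv_eq h1
      rw [mul_inv_rev, inv_inv, inv_eq_of_mul_eq_one_right g2] at h2
      rw [inv_mul_cancel_right, ← h2, ← mul_assoc, x2, one_mul]
    · rintro ⟨c, ⟨hc, hcx⟩, rfl⟩
      refine ⟨⟨c, h.le hc⟩ * x, ?_, rfl, ?_⟩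
      · rw [map_mul, (h.ker ⟨c, h.le hc⟩).2 hc, one_mul, hx]
      · have h1 : c * x = x * c := mem_Cs.1 hcx
        change c * x * (c * x) = 1
        calc c * x * (c * x) = c * (x * c) * x := by group
          _ = c * c * (x * x) := by rw [← h1]; group
          _ = 1 := by rw [h.el.sq c hc, x2, one_mul]
  rw [hI, Set.ncard_image_of_injective _ (mul_left_injective _), ← Nat.card_coe_set_eq]
  exact free' h (hx ▸ hj)

omit [Finite G] in
theorem disj_Inv {j k : Equiv.Perm (Fin 6)} (hjk : j ≠ k) : Disjoint (Inv ψ j) (Inv ψ k) := by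
  rw [Set.disjoint_left]
  rintro _ ⟨g, rfl, rfl, -⟩ ⟨g', rfl, e, -⟩
  exact hjk (congrArg ψ (Subtype.ext e.symm))

theorem core (h : Std A N ψ) (hz : z ∈ A) (z1 : z ≠ 1)
    (hc : ∀ g : N, ψ g * j1 = j1 * ψ g → z * g = g * z) :
    ∃ (s w : G) (M : Subgroup G), orderOf s = 3 ∧ s ∈ N ∧
      s * z = z * s ∧ w ∈ A ∧ w * s = s * w ∧ M ≤ N ⊓ Cs z ∧ M.relIndex (N ⊓ Cs z) = 2 ∧
      z ∈ M ∧ w ∉ M := by
  haveI : Fact (Nat.Prime 3) := ⟨Nat.prime_three⟩
  obtain ⟨s0, hs0⟩ := lift h sg_alt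
  have hs3 : (s0 : G) ^ 3 ∈ A := (h.ker (s0 ^ 3)).1 (by rw [map_pow, hs0, sg_pow])
  let s : N := s0 ^ 4
  have hs : ψ s = sg := by
    rw [map_pow, hs0, pow_succ, sg_pow, one_mul]
  have s3 : (s : G) ^ 3 = 1 := by
    change ((s0 : G) ^ 4) ^ 3 = 1
    have h1 := h.el.sq _ hs3
    calc ((s0 : G) ^ 4) ^ 3 = (s0 ^ 3 * s0 ^ 3) * (s0 ^ 3 * s0 ^ 3) := by group
      _ = 1 := by rw [h1, one_mul]
  have so : orderOf (s : G) = 3 := ord_three s3 fun e => sg_ne (by
    rw [← hs, show s = 1 from Subtype.ext e, map_one])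
  have sz : (s : G) * z = z * s := cent_K h hz z1 hc (hs ▸ sg_nJ)
  have z2 := h.el.sq z hz
  -- the element `w`
  obtain ⟨w, hw, ws, w1, wz⟩ : ∃ w ∈ A, w * s = s * w ∧ w ≠ 1 ∧ w ≠ z := by
    by_contra hne
    have h1 : IsPGroup 3 (zpowers (s : G)) :=
      IsPGroup.of_card (n := 1) (by rw [Nat.card_zpowers, so, pow_one])
    have h2 := card_modEq h1 (zpowers_le.2 (h.nrm s.2))
    have h3 : ((A ⊓ Ce (zpowers (s : G)) : Subgroup G) : Set G) = {1, z} := by
      ext a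
      constructor
      · rintro ⟨ha, hca⟩
        by_contra hn
        exact hne ⟨a, ha, (mem_Ce.1 hca _ (mem_zpowers _)).symm, fun e => hn (Or.inl e),
          fun e => hn (Or.inr e)⟩
      · rintro (rfl | rfl)
        · exact one_mem _
        · exact ⟨hz, mem_Ce.2 fun b hb => (comm_of_mem_zpowers hb sz.symm).symm⟩
    have h4 : Nat.card (A ⊓ Ce (zpowers (s : G)) : Subgroup G) = 2 := by
      change Nat.card ((A ⊓ Ce (zpowers (s : G)) : Subgroup G) : Set G) = 2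
      rw [h3, Nat.card_coe_set_eq, Set.ncard_pair z1.symm]
    rw [h4, h.el.card] at h2
    exact absurd h2 (by decide)
  have wN : w ∈ N := h.le hw
  -- `w` moves every pair
  have hmove : ∀ (x : N) (c : G), ψ x ∈ JS → c = 1 ∨ c = z → w * x * w⁻¹ ≠ x * c := by
    intro x c hx hcz e
    have cs : (s : G) * c * (s : G)⁻¹ = c := by
      rcases hcz with rfl | rfl
      · group
      · rw [sz, mul_inv_cancel_right]
    have c2 : c * c = 1 := by
      rcases hcz with rfl | rfl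
      · exact one_mul _
      · exact z2
    have cc : ∀ y : N, ψ y ∈ JS → c * y = y * c := fun y hy => by
      rcases hcz with rfl | rfl
      · group
      · exact hc y (JS_comm hy)
    have step : ∀ y : N, w * y * w⁻¹ = y * c →
        w * ((s * y * s⁻¹ : N) : G) * w⁻¹ = ((s * y * s⁻¹ : N) : G) * c := fun y hy => by
      change w * (s * y * (s : G)⁻¹) * w⁻¹ = s * y * (s : G)⁻¹ * c
      calc w * (s * y * (s : G)⁻¹) * w⁻¹ = (w * s) * y * (w * s)⁻¹ := by group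
        _ = s * (w * y * w⁻¹) * (s : G)⁻¹ := by rw [ws]; group
        _ = s * y * (s : G)⁻¹ * (s * c * (s : G)⁻¹) := by rw [hy]; group
        _ = _ := by rw [cs]
    have stepJ : ∀ y : N, ψ y ∈ JS → ψ (s * y * s⁻¹) ∈ JS := fun y hy => by
      rw [map_mul, map_mul, map_inv, hs]
      exact (mem_set_normalizer_iff.1 sg_nJ _).1 hy
    obtain ⟨x', hx'⟩ : ∃ x' : N, x' = s * x * s⁻¹ := ⟨_, rfl⟩
    obtain ⟨x'', hx''⟩ : ∃ x'' : N, x'' = s * x' * s⁻¹ := ⟨_, rfl⟩
    have e' : w * x' * w⁻¹ = x' * c := hx' ▸ step x e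
    have e'' : w * x'' * w⁻¹ = x'' * c := hx'' ▸ step x' e'
    have p' : ψ x' = sg * ψ x * sg⁻¹ := by rw [hx', map_mul, map_mul, map_inv, hs]
    have p'' : ψ x'' = sg * (sg * ψ x * sg⁻¹) * sg⁻¹ := by
      rw [hx'', map_mul, map_mul, map_inv, hs, p']
    have J' : ψ x' ∈ JS := hx' ▸ stepJ x hx
    have J'' : ψ x'' ∈ JS := hx'' ▸ stepJ x' J'
    have hA : (x : G) * x' * x'' ∈ A :=
      (h.ker (x * x' * x'')).1 (by rw [map_mul, map_mul, p', p'']; exact JS_prod hx)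
    have c1 : c = 1 := by
      have h1 : w * (x * x' * x'') * w⁻¹ = x * x' * x'' := by
        rw [h.el.comm w hw _ hA, mul_inv_cancel_right]
      have h2 : w * (x * x' * x'') * w⁻¹ = x * x' * x'' * c := by
        calc w * (x * x' * x'') * w⁻¹ = (w * x * w⁻¹) * (w * x' * w⁻¹) * (w * x'' * w⁻¹) := by
              group
          _ = x * (c * x') * (c * x'') * c := by rw [e, e', e'']; group
          _ = x * x' * (c * x'') * (c * c) := by
              rw [cc x' J', cc x'' J'']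
              simp only [mul_assoc]
              rw [← mul_assoc c, cc x'' J'']
              simp only [mul_assoc]
          _ = _ := by rw [c2, mul_one, cc x'' J'', ← mul_assoc]
      rw [h1] at h2
      exact mul_eq_left.1 h2.symm
    rw [c1, mul_one, mul_inv_eq_iff_eq_mul] at e e' e''
    have hw' := cent_R h hz z1 hc hw fun y hy => by
      have key : ∀ t : N, ψ y = ψ t → w * t = t * w → w * y = y * w := fun t ht hwt => by
        have h1 : (y : G) * (t : G)⁻¹ ∈ A :=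
          (h.ker (y * t⁻¹)).1 (by rw [map_mul, map_inv, ht, mul_inv_cancel])
        have h2 := h.el.comm w hw _ h1
        calc w * y = w * (y * (t : G)⁻¹) * t := by group
          _ = y * (t : G)⁻¹ * (w * t) := by rw [h2]; group
          _ = _ := by rw [hwt]; group
      rcases JS_cov hx hy with h1 | h1 | h1
      · exact key x h1 e
      · exact key x' (h1.trans p'.symm) e'
      · exact key x'' (h1.trans p''.symm) e''
    exact hw'.elim w1 wz
  let K : Subgroup G := N ⊓ Cs z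
  have zK : z ∈ K := ⟨h.le hz, mem_Cs.2 rfl⟩
  have wK : w ∈ K := ⟨wN, mem_Cs.2 (h.el.comm w hw z hz)⟩
  let J : Set G := Inv ψ j1 ∪ Inv ψ j2 ∪ Inv ψ j3
  have memJ : ∀ x, x ∈ J ↔ ∃ g : N, ψ g ∈ JS ∧ (g : G) = x ∧ x * x = 1 := fun x => by
    constructor
    · rintro ((⟨g, h1, h2⟩ | ⟨g, h1, h2⟩) | ⟨g, h1, h2⟩)
      · exact ⟨g, mem_JS.2 (Or.inl h1), h2⟩
      · exact ⟨g, mem_JS.2 (Or.inr (Or.inl h1)), h2⟩
      · exact ⟨g, mem_JS.2 (Or.inr (Or.inr h1)), h2⟩
    · rintro ⟨g, h1, h2⟩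
      rcases mem_JS.1 h1 with h1 | h1 | h1
      · exact Or.inl (Or.inl ⟨g, h1, h2⟩)
      · exact Or.inl (Or.inr ⟨g, h1, h2⟩)
      · exact Or.inr ⟨g, h1, h2⟩
  have cJ : J.ncard = 12 := by
    rw [Set.ncard_union_eq (Set.disjoint_union_left.2 ⟨disj_Inv (by decide), disj_Inv (by decide)⟩),
      Set.ncard_union_eq (disj_Inv (by decide)), ncard_Inv h (mem_JS.2 (Or.inl rfl)),
      ncard_Inv h (mem_JS.2 (Or.inr (Or.inl rfl))), ncard_Inv h (mem_JS.2 (Or.inr (Or.inr rfl)))]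
  have JK : J ⊆ Set.range K.subtype := fun x hx => by
    obtain ⟨g, h1, rfl, -⟩ := (memJ x).1 hx
    exact ⟨⟨g, g.2, mem_Cs.2 (hc g (JS_comm h1)).symm⟩, rfl⟩
  obtain ⟨M, hM, zM, wM⟩ := exists_index_two (K := K) (I := K.subtype ⁻¹' J) (z := ⟨z, zK⟩)
    (w := ⟨w, wK⟩) (fun g => Subtype.ext (mem_Cs.1 g.2.2)) (Subtype.ext z2)
    (fun e => z1 (congrArg Subtype.val e))
    (fun g x hx => by
      obtain ⟨y, h1, h2, h3⟩ := (memJ _).1 hx
      refine (memJ _).2 ⟨⟨g, g.2.1⟩ * y * ⟨g, g.2.1⟩⁻¹, ?_, ?_, ?_⟩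
      · rw [map_mul, map_mul, map_inv]
        exact (mem_set_normalizer_iff.1 (nrm_of_cent h hz z1 hc (g := ⟨g, g.2.1⟩) g.2.2) _).1 h1
      · change (g : G) * y * (g : G)⁻¹ = g * x * (g : G)⁻¹
        rw [h2]; rfl
      · change (g : G) * x * (g : G)⁻¹ * (g * x * (g : G)⁻¹) = 1
        have h4 : (x : G) * x = 1 := h3
        calc (g : G) * x * (g : G)⁻¹ * (g * x * (g : G)⁻¹) = g * (x * x) * (g : G)⁻¹ := by group
          _ = 1 := by rw [h4]; group)
    (fun x hx => by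
      obtain ⟨y, h1, h2, h3⟩ := (memJ _).1 hx
      refine (memJ _).2 ⟨y * ⟨z, h.le hz⟩, ?_, ?_, ?_⟩
      · rw [map_mul, (h.ker ⟨z, h.le hz⟩).2 hz, mul_one]
        exact h1
      · change (y : G) * z = x * z
        rw [h2]; rfl
      · change (x : G) * z * (x * z) = 1
        have h4 : (x : G) * x = 1 := h3
        have h5 : (x : G) * z = z * x := mem_Cs.1 x.2.2
        calc (x : G) * z * (x * z) = x * (z * x) * z := by group
          _ = x * x * (z * z) := by rw [← h5]; group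
          _ = 1 := by rw [h4, z2, one_mul])
    (by rw [Set.ncard_preimage_of_injective_subset_range K.subtype_injective JK, cJ])
    (Subtype.ext (h.el.sq w hw))
    (fun x hx => by
      obtain ⟨y, h1, h2, -⟩ := (memJ _).1 hx
      have h3 : (y : G) = x := h2
      refine ⟨fun e => hmove y 1 h1 (Or.inl rfl) ?_, fun e => hmove y z h1 (Or.inr rfl) ?_⟩
      · rw [h3, mul_one]
        exact congrArg Subtype.val e
      · rw [h3]
        exact congrArg Subtype.val e)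
  refine ⟨s, w, M.map K.subtype, so, s.2, sz, hw, ws, map_subtype_le _, ?_, ⟨_, zM, rfl⟩, ?_⟩
  · rw [relIndex, subgroupOf, comap_map_eq_self_of_injective K.subtype_injective, hM]
  · rintro ⟨t, ht, e⟩
    exact wM ((Subtype.ext e : t = ⟨w, wK⟩) ▸ ht)

end Core

omit [Finite G] in
theorem std_conj (h : Std A N ψ) (n : N) : Std A N (ψ.comp (MulAut.conj n).toMonoidHom) where
  el := h.el
  cent := h.cent
  le := h.le
  nrm := h.nrm
  odd := h.odd
  ker := fun g => by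
    change ψ (n * g * n⁻¹) = 1 ↔ _
    rw [h.ker]
    exact (mem_normalizer_iff.1 (h.nrm n.2) g).symm
  range := by
    rw [MonoidHom.range_comp, MonoidHom.range_eq_top.2 (MulAut.conj n).surjective,
      ← MonoidHom.range_eq_map, h.range]
  fpf := fun g hg => h.fpf g (by
    have h1 : (ψ n * ψ g * (ψ n)⁻¹).IsThreeCycle := by
      rw [← map_inv, ← map_mul, ← map_mul]
      exact hg
    rwa [Equiv.Perm.IsThreeCycle, Equiv.Perm.cycleType_conj] at h1)

end Stab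

theorem Std.stab (h : Std A N ψ) {z : G} (hz : z ∈ A) (z1 : z ≠ 1) :
    Nat.card (N ⊓ Cs z : Subgroup G) = 384 ∧ ∃ (s w : G) (M : Subgroup G), orderOf s = 3 ∧ s ∈ N ∧
      s * z = z * s ∧ w ∈ A ∧ w * s = s * w ∧ M ≤ N ⊓ Cs z ∧ M.relIndex (N ⊓ Cs z) = 2 ∧
      z ∈ M ∧ w ∉ M := by
  refine ⟨card_stab h hz z1, ?_⟩
  obtain ⟨z0, hz0, z01, hc⟩ := exists_z h
  obtain ⟨n, hn, e⟩ := h.trans hz hz0 z1 z01
  refine core (std_conj h ⟨n, hn⟩) hz z1 fun g hg => ?_
  have h1 : z0 * (n * g * n⁻¹) = n * g * n⁻¹ * z0 := hc (⟨n, hn⟩ * g * ⟨n, hn⟩⁻¹) hg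
  rw [← e] at h1
  calc z * g = n⁻¹ * (n * z * n⁻¹ * (n * g * n⁻¹)) * n := by group
    _ = _ := by rw [h1]; group

end Cfsg.Lib.T33
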