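import Cfsg.Agent.T33.Basic
import Cfsg.Agent.T33.Std1
import Cfsg.Agent.T33.Std3
import Cfsg.Agent.T33.K2a
import Cfsg.Agent.S3331
import Cfsg.Agent.S0111

/-!
# The isolated edge: the centralizer of an involution of `A` normalizes `A`
-/

set_option autoImplicit false

namespace Cfsg.Lib.T33

open Subgroup Cfsg.Lib.Trans
open scoped commutatorElement

universe u v

variable {G : Type u} [Group G]

namespace W10

theorem rel2_mul {L H : Subgroup G} (h : L.relIndex H = 2) {a b : G} (ha : a ∈ H) (hb : b ∈ H) :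
    a * b ∈ L ↔ (a ∈ L ↔ b ∈ L) :=
  mul_mem_iff_of_index_two (H := L.subgroupOf H) h (a := ⟨a, ha⟩) (b := ⟨b, hb⟩)

theorem rel2_comm {L H : Subgroup G} (h : L.relIndex H = 2) {a b : G} (ha : a ∈ H) (hb : b ∈ H) :
    a * b * a⁻¹ * b⁻¹ ∈ L := by
  rw [mul_assoc, rel2_mul h (mul_mem ha hb) (mul_mem (inv_mem ha) (inv_mem hb)), rel2_mul h ha hb,
    rel2_mul h (inv_mem ha) (inv_mem hb), inv_mem_iff, inv_mem_iff]

theorem mem_of_mem_sup_three [Finite G] {A : Subgroup G} {s x : G} (hs : s ∈ Nm A)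
    (h3 : orderOf s = 3) (hx : x ∈ A ⊔ zpowers s) (n3 : ¬ 3 ∣ orderOf x) : x ∈ A := by
  have hl : zpowers s ≤ Nm A := zpowers_le_of_mem hs
  obtain ⟨a, ha, b, hb, rfl⟩ := (mem_sup_nm hl).1 hx
  have b3 : b ^ 3 = 1 := by
    rw [← h3, ← Nat.card_zpowers]
    exact congrArg Subtype.val (pow_card_eq_one' (G := zpowers s) (x := ⟨b, hb⟩))
  have e : (a * b) ^ 3 = a * (b * a * b⁻¹) * (b * (b * a * b⁻¹) * b⁻¹) * b ^ 3 := by
    simp only [pow_succ, pow_zero]; group
  have m : (a * b) ^ 3 ∈ A := by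
    rw [e, b3, mul_one]
    have h1 := mem_normalizer_conj (hl hb) ha
    exact mul_mem (mul_mem ha h1) (mem_normalizer_conj (hl hb) h1)
  exact zpowers_le_of_mem m (mem_zpowers_pow_iff.2 ((Nat.Prime.coprime_iff_not_dvd Nat.prime_three).2 n3))

theorem four_cases' [Finite G] {W : Subgroup G} (hW : El W 4) {z w x : G} (hz : z ∈ W) (hw : w ∈ W)
    (z1 : z ≠ 1) (w1 : w ≠ 1) (ne : z ≠ w) (hx : x ∈ W) : x = 1 ∨ x = z ∨ x = w ∨ x = z * w :=
  four_cases hW.card.le hz hw (mul_mem hz hw) z1 w1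
    (fun e => ne (by rw [← hW.inv_eq hw]; exact eq_inv_of_mul_eq_one_left e)) ne
    (fun e => w1 (mul_eq_left.1 e.symm)) (fun e => z1 (mul_eq_right.1 e.symm)) hx

theorem exists_sq_mem {A T : Subgroup G} : ∀ (n : ℕ) (t : G), t ∈ T → t ∉ A → t ^ 2 ^ n ∈ A →
    ∃ j ∈ T, j ∉ A ∧ j * j ∈ A
  | 0, t, _, h1, h2 => absurd (by simpa using h2) h1
  | n + 1, t, h0, h1, h2 => by
    by_cases h : t * t ∈ A
    · exact ⟨t, h0, h1, h⟩
    · exact exists_sq_mem n (t * t) (mul_mem h0 h0) h (by rwa [← sq, ← pow_mul, ← pow_succ'])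

/-- The consequence of the Feit-Thompson theorem on self-centralizing subgroups of order three. -/
theorem card_le_96 {X : Type u} [Group X] [Finite X] {t : X} (ht : orderOf t = 3)
    (hC : ∀ g, g * t = t * g → g ∈ zpowers t) (h32 : 32 ∣ Nat.card X) (h64 : ¬ 64 ∣ Nat.card X)
    {U : Set X} (hU : ∀ u ∈ U, u * u = 1 ∧ ∃ x y : X, u = ⁅x, y⁆)
    (hodd : ∀ p, p.Prime → p ≠ 2 → p ≠ 3 → ∀ o, orderOf o = p → ¬ ∀ u ∈ U, Commute o u) :
    Nat.card X ≤ 96 := by
  have hc : centralizer (zpowers t : Set X) = zpowers t := le_antisymm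
    (fun g hg => hC g (hg t (mem_zpowers t)).symm) fun g hg x hx =>
      comm_of_mem_zpowers hg (comm_of_mem_zpowers hx rfl).symm
  rcases Cfsg.Agent.S3331.result (zpowers t) (by rw [Nat.card_zpowers, ht]) hc with
    ⟨N, hN, h1, h2, h3⟩ | ⟨N, hN, -, h2, ⟨e⟩⟩ | ⟨⟨e⟩⟩
  · have hUN : ∀ u ∈ U, u ∈ N := fun u hu => by
      obtain ⟨u2, x, y, e⟩ := hU u hu
      rw [← QuotientGroup.eq_one_iff]
      have q2 : (u : X ⧸ N) * u = 1 := by rw [← QuotientGroup.mk_mul, u2, QuotientGroup.mk_one]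
      rcases h3 with h3 | ⟨⟨f⟩⟩
      · have := pow_card_eq_one' (x := (u : X ⧸ N))
        rwa [h3, pow_succ, sq, q2, one_mul] at this
      · have k : ∀ a b : Equiv.Perm (Fin 3), ⁅a, b⁆ * ⁅a, b⁆ = 1 → ⁅a, b⁆ = 1 := by decide +kernel
        have e2 : f (u : X ⧸ N) = ⁅f (x : X ⧸ N), f (y : X ⧸ N)⁆ := by
          rw [e, ← map_commutatorElement f]
          rfl
        refine f.injective ?_
        rw [map_one, e2]
        exact k _ _ (by rw [← e2, ← map_mul, q2, map_one])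
    have h4 : ∀ {p : ℕ}, p.Prime → p ∣ Nat.card N → p = 2 := fun {p} hp hd => by
      by_contra p2
      have := Fact.mk hp
      obtain ⟨o, ho⟩ := exists_prime_orderOf_dvd_card' p hd
      refine hodd p hp p2 ?_ o (by rw [Subgroup.orderOf_coe, ho]) fun u hu => ?_
      · rintro rfl
        exact absurd (Nat.Coprime.coprime_dvd_left hd h2) (by norm_num)
      · have := Cfsg.Lib.Char.Brauer.commute_of_pow_eq_one_of_isNilpotent
          ((Nat.coprime_primes hp Nat.prime_two).2 p2) (x := o) (y := ⟨u, hUN u hu⟩)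
          (ho ▸ pow_orderOf_eq_one o) (Subtype.ext (by simpa [sq] using (hU u hu).1))
        exact this.map N.subtype
    have h5 := Nat.eq_prime_pow_of_unique_prime_dvd Nat.card_pos.ne' h4
    generalize (Nat.card N).primeFactorsList.length = a at h5
    have h6 := N.card_mul_index
    rw [index_eq_card] at h6
    have h7 : ∃ b, Nat.card X = 2 ^ b * 3 := by
      rcases h3 with h3 | ⟨⟨f⟩⟩
      · exact ⟨a, by rw [← h6, h5, h3]⟩
      · refine ⟨a + 1, ?_⟩
        rw [← h6, h5, Nat.card_congr f.toEquiv, Nat.card_perm, Nat.card_fin]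
        norm_num [Nat.factorial]; ring
    obtain ⟨b, hb⟩ := h7
    rw [hb] at h64 ⊢
    have : b ≤ 5 := by
      by_contra hh
      exact h64 (Dvd.dvd.mul_right (pow_dvd_pow 2 (show 6 ≤ b by omega)) 3)
    have := Nat.pow_le_pow_right (show 0 < 2 by norm_num) this
    omega
  · exfalso
    have hp : IsPGroup 2 N := fun g => ⟨1, Subtype.ext (by simpa using h2 g g.2)⟩
    obtain ⟨a, ha⟩ := IsPGroup.iff_card.1 hp
    have h6 := N.card_mul_index
    rw [index_eq_card, Nat.card_congr e.toEquiv, nat_card_alternatingGroup, Nat.card_fin, ha] at h6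
    norm_num [Nat.factorial] at h6
    rw [← h6] at h32 h64
    have a3 : a = 3 := by
      have : a ≤ 3 := by
        by_contra hh
        obtain ⟨c, rfl⟩ : ∃ c, a = c + 4 := ⟨a - 4, by omega⟩
        exact h64 ⟨2 ^ c * 15, by ring⟩
      interval_cases a <;> simp_all
    subst a3
    classical
    have := Fintype.ofFinite N
    have := Fact.mk Nat.prime_three
    let f : Function.End N := fun x => MulAut.conjNormal (H := N) t x
    have hf : f ^ 3 ^ 1 = 1 := by
      funext x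
      have : (f ^ 3 ^ 1) x = (MulAut.conjNormal (H := N) (t ^ 3)) x := by
        rw [map_pow]; rfl
      rw [this, cube_of_ord ht, map_one]; rfl
    have h8 := Equiv.Perm.card_fixedPoints_modEq hf
    have h9 : f.fixedPoints = {1} := by
      ext x
      refine ⟨fun hx => ?_, by rintro rfl; exact map_one (MulAut.conjNormal t)⟩
      have e1 : t * x * t⁻¹ = x := congrArg Subtype.val hx
      have m := hC x (mul_inv_eq_iff_eq_mul.1 e1).symm
      have x2 : (x : X) ^ 2 = 1 := h2 x x.2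
      rcases mem_zpowers_three ht m with e | e | e
      · exact Subtype.ext e
      · rw [e] at x2
        exact absurd (ht ▸ orderOf_dvd_of_pow_eq_one x2) (by norm_num)
      · rw [e, inv_pow, inv_eq_one] at x2
        exact absurd (ht ▸ orderOf_dvd_of_pow_eq_one x2) (by norm_num)
    simp only [h9, Fintype.card_unique, ← Nat.card_eq_fintype_card, ha] at h8
    exact absurd h8 (by decide)
  · exfalso
    have := Cfsg.Lib.Class.gcd_mul_card_PSL2 (F := ZMod 7)
    rw [Nat.card_zmod, ← Nat.card_congr e.toEquiv] at this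
    norm_num at this
    omega

theorem zp2 {z x : G} (hz : z * z = 1) (hx : x ∈ zpowers z) : x = 1 ∨ x = z := by
  obtain ⟨n, rfl⟩ := mem_zpowers_iff.1 hx
  have : z ^ (2 : ℤ) = 1 := by rw [zpow_two, hz]
  obtain ⟨k, rfl | rfl⟩ := Int.even_or_odd' n
  · exact Or.inl (by rw [zpow_mul, this, one_zpow])
  · exact Or.inr (by rw [zpow_add, zpow_mul, this, one_zpow, one_mul, zpow_one])

theorem card_le_192 [Finite G] {L V : Subgroup G} {z s : G} (hz : z ∈ L) (z2 : z * z = 1)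
    (z1 : z ≠ 1) (hc : L ≤ Cs z) (hs : s ∈ L) (s3 : orderOf s = 3)
    (hC : ∀ g ∈ L, g * s = s * g → g ∈ zpowers s ∨ g * z ∈ zpowers s) (h64 : 64 ∣ Nat.card L)
    (h128 : ¬ 128 ∣ Nat.card L) (hV : ∀ u ∈ V, u * u = 1 ∧ ∃ x ∈ L, u = x * s * x⁻¹ * s⁻¹)
    (hodd : ∀ o ∈ Ce V, ¬ 3 ∣ orderOf o → o * o = 1) : Nat.card L ≤ 192 := by
  have cz : ∀ g ∈ L, g * z = z * g := fun g hg => mem_Cs.1 (hc hg)
  have : ((zpowers z).subgroupOf L).Normal := ⟨fun n hn g => by
    rw [mem_subgroupOf] at hn ⊢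
    have : (g : G) * n = n * g := comm_of_mem_zpowers hn (cz g g.2)
    simpa [this] using hn⟩
  let f := QuotientGroup.mk' ((zpowers z).subgroupOf L)
  have hf : ∀ a b : L, f a = f b → (a : G) = b ∨ (a : G) = b * z := fun a b e => by
    have h1 : ((b⁻¹ * a : L) : G) ∈ zpowers z := mem_subgroupOf.1 (QuotientGroup.eq.1 e.symm)
    exact (zp2 z2 h1).imp (fun h => (inv_mul_eq_one.1 h).symm) fun h => inv_mul_eq_iff_eq_mul.1 h
  have fz : f ⟨z, hz⟩ = 1 := (QuotientGroup.eq_one_iff _).2 (mem_subgroupOf.2 (mem_zpowers z))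
  have hcard : Nat.card L = 2 * Nat.card (L ⧸ (zpowers z).subgroupOf L) := by
    rw [← ((zpowers z).subgroupOf L).card_mul_index, index_eq_card,
      Nat.card_congr (subgroupOfEquivOfLe (zpowers_le_of_mem hz)).toEquiv, Nat.card_zpowers,
      orderOf_eq_prime (by rw [sq, z2]) z1]
  have cube := cube_of_ord s3
  have hsz : ∀ g : G, g * s * g⁻¹ ≠ s * z := fun g e => by
    have h1 : (s * z) ^ 3 = 1 := by rw [← e, conj_pow, cube, mul_one, mul_inv_cancel]
    rw [Commute.mul_pow (cz s hs), cube, one_mul, pow_succ, sq, z2, one_mul] at h1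
    exact z1 h1
  have mz : ∀ g : L, (g : G) ∈ zpowers s → f g ∈ zpowers (f ⟨s, hs⟩) := fun g hg => by
    obtain ⟨n, hn⟩ := mem_zpowers_iff.1 hg
    exact mem_zpowers_iff.2 ⟨n, by rw [← map_zpow]; exact congrArg f (Subtype.ext hn)⟩
  rw [hcard] at h64 h128 ⊢
  refine Nat.mul_le_mul_left 2 (card_le_96 (t := f ⟨s, hs⟩) (U := f '' {u | (u : G) ∈ V}) ?_ ?_
    (by omega) (by omega) ?_ ?_)
  · refine ord_three (by rw [← map_pow, ← map_one f]; exact congrArg f (Subtype.ext cube)) fun e => ?_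
    rcases hf _ 1 e with h | h
    · exact ne_one_of_ord s3 h
    · have h' : s = z := by simpa using h
      rw [h', pow_succ, sq, z2, one_mul] at cube
      exact z1 cube
  · intro gb hg
    obtain ⟨g, rfl⟩ := QuotientGroup.mk'_surjective _ gb
    have e : f (g * ⟨s, hs⟩ * g⁻¹) = f ⟨s, hs⟩ := by
      rw [map_mul, map_mul, map_inv]; exact mul_inv_eq_iff_eq_mul.2 hg
    rcases hC g g.2 (mul_inv_eq_iff_eq_mul.1 ((hf _ _ e).resolve_right (hsz g))) with h | h
    · exact mz g h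
    · simpa only [map_mul, fz, mul_one] using mz (g * ⟨z, hz⟩) h
  · rintro _ ⟨u, hu, rfl⟩
    obtain ⟨u2, x, hx, e⟩ := hV u hu
    refine ⟨by rw [← map_mul, ← map_one f]; exact congrArg f (Subtype.ext u2),
      f ⟨x, hx⟩, f ⟨s, hs⟩, ?_⟩
    rw [← map_commutatorElement]
    exact congrArg f (Subtype.ext e)
  · intro p hp p2 p3 ob ho hcom
    obtain ⟨o, rfl⟩ := QuotientGroup.mk'_surjective _ ob
    have h1 : ((o : G) * o) ^ p = 1 := by
      have e : f (o ^ p) = f 1 := by rw [map_pow, map_one, ← ho]; exact pow_orderOf_eq_one _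
      rw [← sq, ← pow_mul, mul_comm, pow_mul, sq]
      rcases hf _ _ e with h | h
      · rw [show (o : G) ^ p = 1 from h, mul_one]
      · rw [show (o : G) ^ p = 1 * z from h, one_mul, z2]
    have h2 : (o : G) * o ∈ Ce V := mem_Ce.2 fun u hu => by
      obtain ⟨-, x, hx, e⟩ := hV u hu
      have uL : u ∈ L := e ▸ mul_mem (mul_mem (mul_mem hx hs) (inv_mem hx)) (inv_mem hs)
      have e2 : f (o * ⟨u, uL⟩) = f (⟨u, uL⟩ * o) := by
        rw [map_mul, map_mul]; exact (hcom _ ⟨⟨u, uL⟩, hu, rfl⟩).eq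
      rcases hf _ _ e2 with h | h
      · have h' : (o : G) * u = u * o := h
        rw [← mul_assoc, ← h', mul_assoc, ← h', mul_assoc]
      · have h' : (o : G) * u = u * o * z := h
        symm
        calc (o : G) * o * u = o * (u * o * z) := by rw [mul_assoc, h']
          _ = (o * u) * (o * z) := by simp only [mul_assoc]
          _ = u * o * z * (o * z) := by rw [h']
          _ = u * o * (z * o) * z := by simp only [mul_assoc]
          _ = u * (o * o) := by rw [← cz o o.2]; simp only [mul_assoc, z2, mul_one]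
    have h3 := hodd _ h2 fun h => p3 ((Nat.prime_dvd_prime_iff_eq Nat.prime_three hp).1
      (h.trans (orderOf_dvd_of_pow_eq_one h1))).symm
    have h4 : f o ^ 4 = 1 := by
      rw [← map_pow, ← map_one f]
      exact congrArg f (Subtype.ext (by
        simpa only [pow_succ, pow_zero, one_mul, mul_assoc, coe_mul, coe_one] using h3))
    have h5 : p ∣ 2 ^ 2 := ho ▸ orderOf_dvd_of_pow_eq_one h4
    exact p2 ((Nat.prime_dvd_prime_iff_eq hp Nat.prime_two).1 (hp.dvd_of_dvd_pow h5))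

variable [Finite G] {A : Subgroup G} {ψ : Nm A →* Equiv.Perm (Fin 6)}

theorem mem_of_cent (k : K2D A) {s x : G} (hs : s ∈ Nm A) (h3 : orderOf s = 3)
    (ne : A ⊓ Vs s ≠ ⊥) (hx : x ∈ Ce (Vs s)) (n3 : ¬ 3 ∣ orderOf x) : x ∈ A :=
  mem_of_mem_sup_three hs h3 ((k.k1 s hs h3 ne).2 hx) n3

/-- The second four-group in `A`. -/
theorem exists_second (hy : Hy G) (h : Std A (Nm A) ψ) (k : K2D A) {s : G} (sN : s ∈ Nm A)
    (s3 : orderOf s = 3) : ∃ V ≤ A, (∀ u ∈ V, ∃ x ∈ V, u = x * s * x⁻¹ * s⁻¹) ∧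
      ∀ o ∈ Ce V, ¬ 3 ∣ orderOf o → o ∈ A := by
  have := Fact.mk Nat.prime_three
  obtain ⟨P, hP, sP⟩ := exists_isSylowIn_ge (p := 3) (Q := zpowers s)
    (IsPGroup.of_card (n := 1) (by rw [Nat.card_zpowers, s3, pow_one])) (zpowers_le_of_mem sN)
  have cP : Nat.card P = 9 := by
    rw [hP.card_eq, h.card, ← Nat.primeFactorsList_count_eq]
    simp [Nat.primeFactorsList_ofNat]
  obtain ⟨t, F⟩ := hy.exists_Fr cP
  have sP' := sP (mem_zpowers s)
  obtain ⟨j, hj⟩ := (F.cov s sP').resolve_left (ne_one_of_ord s3)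
  obtain ⟨m, mj, ne⟩ : ∃ m, m ≠ j ∧ A ⊓ Vs (t m) ≠ ⊥ := by
    by_contra hh
    push Not at hh
    have e := F.eq_iSup hy hP.le (by rw [h.el.card]; norm_num)
    have : A ≤ Vs (t j) := e ▸ iSup_le fun m => by
      by_cases c : m = j
      · exact c ▸ inf_le_right
      · exact (hh m c).le.trans bot_le
    have := (Trans.card_le_of_le this).trans (hy.card_le (F.ord j))
    rw [h.el.card] at this
    omega
  have tN := hP.le (F.mem m)
  have le := (k.k1 _ tN (F.ord m) ne).1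
  refine ⟨_, le, fun u hu => ?_, fun o ho => mem_of_cent k tN (F.ord m) ne ho⟩
  have nv := F.le_Nm_V m sP'
  have hx := mem_normalizer_conj nv hu
  have hy' := mem_normalizer_conj nv hx
  refine ⟨_, hx, ?_⟩
  have e3 : s * (s * (s * u * s⁻¹) * s⁻¹) * s⁻¹ = u := by
    calc _ = s ^ 3 * u * (s ^ 3)⁻¹ := by simp only [pow_succ, pow_zero]; group
      _ = u := by rw [cube_of_ord s3]; group
  obtain ⟨x, ex⟩ : ∃ x, x = s * u * s⁻¹ := ⟨_, rfl⟩
  rw [← ex] at hx hy' e3 ⊢
  have c : s * (u * x * (s * x * s⁻¹)) * s⁻¹ = u * x * (s * x * s⁻¹) := by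
    calc _ = (s * u * s⁻¹) * (s * x * s⁻¹) * (s * (s * x * s⁻¹) * s⁻¹) := by group
      _ = x * (s * x * s⁻¹) * u := by rw [e3, ← ex]
      _ = _ := by rw [h.el.comm _ (le (mul_mem hx hy')) u (le hu), mul_assoc u]
  have c' := (mul_inv_eq_iff_eq_mul.1 c).symm
  have := F.fpf hy mj.symm (mul_mem (mul_mem hu hx) hy') (by
    rcases hj with rfl | rfl
    · exact c'
    · exact (Commute.inv_right_iff.1 c').eq)
  rw [h.el.inv_eq (le hx), mul_assoc x s, mul_assoc x, ← h.el.inv_eq (le (mul_mem hx hy'))]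
  exact eq_inv_of_mul_eq_one_left (by rw [← this, mul_assoc u])

end W10

open W10

variable [Finite G] {A : Subgroup G} {ψ : Nm A →* Equiv.Perm (Fin 6)}

theorem Std.cent_le (hy : Hy G) (h : Std A (Nm A) ψ) (k : K2D A) {z : G} (hz : z ∈ A)
    (z1 : z ≠ 1) : Cs z ≤ Nm A := by
  obtain ⟨hK, s, w, M, s3, sN, sz, wA, ws, MK, M2, zM, wM⟩ := h.stab hz z1
  have hA := h.el
  have z2 := hA.sq z hz
  have zV : z ∈ Vs s := (hy.mem s s3 z).2 ⟨sz.symm, z2⟩
  have wV : w ∈ Vs s := (hy.mem s s3 w).2 ⟨ws, hA.sq w wA⟩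
  have hW : El (Vs s) 4 := hy.el s3 fun e => z1 (mem_bot.1 (e ▸ zV))
  have w1 : w ≠ 1 := fun e => wM (e ▸ one_mem M)
  have cases := fun x => four_cases' hW zV wV z1 w1 (fun e => wM (e ▸ zM)) (x := x)
  have AH : A ≤ Cs z := fun a ha => mem_Cs.2 (hA.comm a ha z hz)
  have L : ∀ x, x * z = z * x → x * w = w * x → ¬ 3 ∣ orderOf x → x ∈ A := fun x c1 c2 =>
    mem_of_cent k sN s3 (fun e => z1 (mem_bot.1 (e ▸ mem_inf.2 ⟨hz, zV⟩))) (mem_Ce.2 fun a ha => by
      rcases cases a ha with rfl | rfl | rfl | rfl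
      exacts [by simp, c1.symm, c2.symm, (Commute.mul_right c1 c2).symm])
  obtain ⟨T, hT⟩ := exists_isSylowIn (p := 2) (Nm A ⊓ Cs z)
  have cT : Nat.card T = 128 := by
    rw [hT.card_eq, hK, ← Nat.primeFactorsList_count_eq]
    simp [Nat.primeFactorsList_ofNat]
  have hTG : IsSylowIn 2 T ⊤ := by
    obtain ⟨S, hS⟩ := exists_isSylowIn (p := 2) (⊤ : Subgroup G)
    exact hS.of_card_ge hT.isPGroup le_top (by rw [hS.card_eq, card_top, h.fact_top hy k, cT]; norm_num)
  have TN := hT.le.trans inf_le_left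
  have TH := hT.le.trans inf_le_right
  have AT : A ≤ T := hT.le_of_normal hA.pgroup (le_inf le_normalizer AH) inf_le_left
  have claim : ∀ g ∈ Cs z, g * w * g⁻¹ ∈ T → g * w * g⁻¹ ∉ M := fun g hg hv hM => by
    have key : T ⊓ Cs (g * w * g⁻¹) ≤ cj g A := fun x hx => by
      have c1 := mem_Cs.1 (mul_mem (mul_mem (inv_mem hg) (TH hx.1)) hg)
      refine mem_cj.2 (L _ c1 ?_ fun h3 => ?_)
      · calc g⁻¹ * x * g * w = g⁻¹ * (x * (g * w * g⁻¹)) * g := by group
          _ = _ := by rw [mem_Cs.1 hx.2]; group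
      · obtain ⟨n, hn⟩ := hT.isPGroup ⟨x, hx.1⟩
        have : (g⁻¹ * x * g) ^ 2 ^ n = 1 := by
          have e := conj_pow (a := g⁻¹) (b := x) (i := 2 ^ n)
          rw [inv_inv] at e
          rw [e, show x ^ 2 ^ n = 1 from congrArg Subtype.val hn]; group
        exact absurd (Nat.prime_three.dvd_of_dvd_pow (h3.trans (orderOf_dvd_of_pow_eq_one this)))
          (by norm_num)
    have e : cj g A = A := by
      by_cases vA : g * w * g⁻¹ ∈ A
      · exact (eq_of_le_of_card_ge ((le_inf AT fun a ha => mem_Cs.2 (hA.comm a ha _ vA)).trans key)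
          (card_cj g A).le).symm
      · refine h.wc hy k g (le_trans ?_ TN)
        have := h.cent16 (hTG.mono TN le_top) hv vA (by
          rw [conj_mul, hA.sq w wA, mul_one, mul_inv_cancel])
        rw [← eq_of_le_of_card_ge key (by rw [card_cj, hA.card]; exact this)]
        exact inf_le_left
    have gK : g ∈ Nm A ⊓ Cs z := ⟨cj_eq_self_iff.1 e, hg⟩
    have wK : w ∈ Nm A ⊓ Cs z := hT.le (AT wA)
    rw [rel2_mul M2 (mul_mem gK wK) (inv_mem gK), rel2_mul M2 gK wK, inv_mem_iff] at hM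
    tauto
  obtain ⟨L0, hL, L2, wL⟩ : ∃ L0 ≤ Cs z, L0.relIndex (Cs z) = 2 ∧ w ∉ L0 := by
    have hTH := hTG.mono TH le_top
    rcases Cfsg.Agent.S0111.result hTH.toSylow ((M ⊓ T).subgroupOf (Cs z))
      (subgroupOf_mono _ inf_le_right) (by
        rw [hTH.coe_toSylow, relIndex_subgroupOf TH, inf_relIndex_right]
        have h1 := relIndex_le_of_le_right (H := M) hT.le (by omega)
        have h2 : M.relIndex T ≠ 0 := index_ne_zero_of_finite
        have h3 : M.relIndex T ≠ 1 := fun e => wM (relIndex_eq_one.1 e (AT wA))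
        omega) ⟨w, AH wA⟩ (by
        rw [← Subgroup.orderOf_coe]; exact orderOf_eq_prime (by rw [sq, hA.sq w wA]) w1) (AT wA)
      (fun e => wM e.1) with ⟨M0, -, h1, h2⟩ | ⟨g, hg⟩
    · refine ⟨M0.map (Cs z).subtype, map_subtype_le _, ?_, ?_⟩
      · rw [relIndex, subgroupOf, comap_map_eq_self_of_injective (subtype_injective _), h1]
      · rintro ⟨x, hx, e⟩
        exact h2 ((Subtype.ext e : x = ⟨w, AH wA⟩) ▸ hx)
    · exact absurd hg.1 (claim g g.2 hg.2)
  have zL : z ∈ L0 := by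
    obtain ⟨t, ht, tA⟩ : ∃ t ∈ T, t ∉ A := by
      by_contra hh
      push Not at hh
      have := Trans.card_le_of_le (show T ≤ A from hh)
      rw [cT, hA.card] at this
      omega
    obtain ⟨n, hn⟩ := hT.isPGroup ⟨t, ht⟩
    obtain ⟨j, hj, jA, j2⟩ := exists_sq_mem n t ht tA
      (by rw [show t ^ 2 ^ n = 1 from congrArg Subtype.val hn]; exact one_mem _)
    obtain ⟨a, ha, e⟩ := hA.exists_comm (TN hj) (hA.le_Ce j2) (by rw [h.free (TN hj) jA j2]; rfl)
      hz (mem_Cs.1 (TH hj)).symm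
    have := rel2_comm L2 (AH ha) (TH hj)
    rwa [e, mul_inv_cancel_right] at this
  have sH : s ∈ Cs z := mem_Cs.2 sz
  have sL : s ∈ L0 := by
    have h1 := (rel2_mul L2 sH sH).2 Iff.rfl
    have h2 : s * s * (s * s) = s := by
      calc _ = s ^ 3 * s := by simp only [pow_succ, pow_zero, one_mul, mul_assoc]
        _ = s := by rw [cube_of_ord s3, one_mul]
    exact h2 ▸ mul_mem h1 h1
  obtain ⟨V, VA, hV, hV'⟩ := exists_second hy h k sN s3
  have c1 := card_mul_relIndex hL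
  have c2 := card_dvd_of_le (show Nm A ⊓ Cs z ≤ Cs z from inf_le_right)
  have c3 : ¬ 2 ^ 8 ∣ Nat.card (Cs z) := fun hd => by
    have := (Nat.prime_two.pow_dvd_iff_le_factorization Nat.card_pos.ne').1
      (hd.trans (card_subgroup_dvd_card _))
    rw [h.fact_top hy k] at this
    omega
  rw [hK] at c2
  rw [L2] at c1
  have := card_le_192 (V := V) zL z2 z1 hL sL s3 (fun g hg c => ?_) (by omega) (by omega)
    (fun u hu => ?_) fun o ho n3 => hA.sq o (hV' o ho n3)
  · rw [← eq_of_le_of_card_ge (show Nm A ⊓ Cs z ≤ Cs z from inf_le_right) (by omega)]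
    exact inf_le_left
  · have g3 := hy.cube s s3 g c
    have g6 : g ^ 3 * g ^ 3 = 1 := hW.sq _ g3
    have g4 : g ^ 4 ∈ zpowers s := by
      by_contra hh
      have o3 : orderOf (g ^ 4) = 3 := ord_three (by
        calc (g ^ 4) ^ 3 = (g ^ 3 * g ^ 3) ^ 2 := by group
          _ = 1 := by rw [g6, one_pow]) fun e => hh (e ▸ one_mem _)
      exact z1 (hy.fpf s _ s3 o3 (Commute.pow_left c 4) hh z zV
        (Commute.pow_left (mem_Cs.1 (hL hg)) 4).symm)
    have gL := pow_mem hg 3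
    rcases cases _ g3 with e | e | e | e
    · exact Or.inl (by rwa [pow_succ, e, one_mul] at g4)
    · exact Or.inr (by rwa [pow_succ', e] at g4)
    · exact absurd (e ▸ gL) wL
    · exact absurd ((mul_mem_cancel_left zL).1 (e ▸ gL)) wL
  · obtain ⟨x, hx, e⟩ := hV u hu
    obtain ⟨y, hy', e'⟩ := hV x hx
    exact ⟨hA.sq u (VA hu), x, e' ▸ rel2_comm L2 (AH (VA hy')) sH, e⟩

end Cfsg.Lib.T33
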