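import Cfsg.Agent.T33.Basic
import Cfsg.Agent.Trans.TransferTools

/-!
# An isolated edge with small automizer is impossible
-/

set_option autoImplicit false

namespace Cfsg.Lib.T33

open Subgroup Cfsg.Lib.Trans
open scoped commutatorElement Pointwise

universe u

variable {G : Type u} [Group G]

namespace K2s

variable {A T V W B : Subgroup G} {i t u x y c : G}

/-- The element interchanges the two subgroups. -/
def Swp (V W : Subgroup G) (n : G) : Prop := cj n V = W ∧ cj n W = V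

/-- The local data: a Sylow subgroup of the normalizer of `A = V × W`. -/
structure KS (A T V W : Subgroup G) (i t u : G) : Prop where
  el : El A 16
  cent : Ce A ≤ A
  syl : IsSylowIn 2 T (Nm A)
  AT : A ≤ T
  iT : i ∈ T
  iA : i ∉ A
  i2 : i * i = 1
  iV : i ∈ Nm V
  VA : V ≤ A
  WA : W ≤ A
  inf : V ⊓ W = ⊥
  cs : ∀ x ∈ T, x ∈ A ∨ x * i ∈ A ∨ Swp V W x ∧ x * x ∉ A
  pm : ∀ n ∈ Nm A, n ∈ Nm V ∧ n ∈ Nm W ∨ Swp V W n ∧ ∃ e ∈ T, Swp V W e ∧ e * i = i * e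
  tV : t ∈ V
  uW : u ∈ W
  t1 : t ≠ 1
  u1 : u ≠ 1
  ti : t * i = i * t
  ui : u * i = i * u
  fix : ∀ c ∈ A, c * i = i * c → c = 1 ∨ c = t ∨ c = u ∨ c = t * u

theorem cj_of_le {n : ℕ} (h : El A n) (hV : V ≤ A) (hc : c ∈ A) : cj c V = V :=
  cj_eq_of_mem_centralizer (mem_centralizer_iff.2 fun v hv => h.comm _ (hV hv) _ hc)

theorem Swp.mul {n : ℕ} (h : El A n) (hV : V ≤ A) (hW : W ≤ A) (hc : c ∈ A) (k : Swp V W x) :
    Swp V W (c * x) :=
  ⟨by rw [cj_mul, k.1, cj_of_le h hW hc], by rw [cj_mul, k.2, cj_of_le h hV hc]⟩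

namespace KS

theorem eq_one (h : KS A T V W i t u) (hV : x ∈ V) (hW : x ∈ W) : x = 1 :=
  mem_bot.1 (h.inf ▸ mem_inf.2 ⟨hV, hW⟩)

theorem conj (h : KS A T V W i t u) (hx : x ∈ T) (hc : c ∈ A) : x * c * x⁻¹ ∈ A :=
  mem_normalizer_conj (h.syl.le hx) hc

theorem nrmV (h : KS A T V W i t u) (hx : x ∈ A ∨ x * i ∈ A) : cj x V = V := by
  rcases hx with hx | hx
  · exact cj_of_le h.el h.VA hx
  · rw [show x = x * i * i by rw [mul_assoc, h.i2, mul_one], cj_mul,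
      cj_eq_of_mem_normalizer h.iV, cj_of_le h.el h.VA hx]

theorem ne (h : KS A T V W i t u) : V ≠ W := fun e => h.t1 (h.eq_one h.tV (e ▸ h.tV))

theorem sq_not (h : KS A T V W i t u) (hx : x ∈ T) (k : Swp V W x) : x * x ∉ A := by
  rcases or_assoc.2 (h.cs x hx) with e | e
  exacts [absurd ((h.nrmV e).symm.trans k.1) h.ne, e.2]

theorem coset (h : KS A T V W i t u) (hx : x ∈ T) (hA : x ∉ A) (h2 : x * x ∈ A) : x * i ∈ A :=
  ((h.cs x hx).resolve_left hA).resolve_right fun k => k.2 h2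

theorem mul_mem (h : KS A T V W i t u) (hx : x * i ∈ A) (hy : y * i ∈ A) : x * y ∈ A := by
  have := A.mul_mem hx (h.conj h.iT hy)
  rwa [show x * i * (i * (y * i) * i⁻¹) = x * (i * i) * y by group, h.i2, mul_one] at this

/-- The elements of the coset `A i` act on `A` as `i`. -/
theorem comm_i (h : KS A T V W i t u) (hx : x * i ∈ A) (hc : c ∈ A) (e : c * x = x * c) :
    c * i = i * c := by
  have e1 : Commute c (x * i) := h.el.comm _ hc _ hx
  simpa using ((show Commute c x from e).inv_right.mul_right e1).eq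

theorem card_fix [Finite G] (h : KS A T V W i t u) : Nat.card (A ⊓ Cs i : Subgroup G) ≤ 4 := by
  classical
  have : ((A ⊓ Cs i : Subgroup G) : Set G) ⊆ ({1, t, u, t * u} : Finset G) := fun c hc => by
    simpa using h.fix c hc.1 (mem_centralizer_singleton_iff.1 hc.2)
  exact (Set.ncard_le_ncard this).trans ((Set.ncard_coe_finset _).trans_le Finset.card_le_four)

theorem uniq [Finite G] (h : KS A T V W i t u) (hB : El B 16) (hT : B ≤ T) : B = A := by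
  by_cases hA : B ≤ A
  · exact eq_of_le_of_card_ge hA (by rw [hB.card, h.el.card])
  obtain ⟨b, hb, bA⟩ := SetLike.not_le_iff_exists.1 hA
  have k : ∀ x ∈ B, x ∉ A → x * i ∈ A := fun x hx e =>
    h.coset (hT hx) e (hB.sq x hx ▸ A.one_mem)
  have e1 : A.relIndex B = 2 := relIndex_eq_two_iff_exists_notMem_and.2
    ⟨b, hb, bA, fun x hx => (em _).symm.imp_left fun e => h.mul_mem (k x hx e) (k b hb bA)⟩
  have e0 : A ⊓ B ≤ A ⊓ Cs i := fun x hx => ⟨hx.1,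
    mem_centralizer_singleton_iff.2 (h.comm_i (k b hb bA) hx.1 (hB.comm _ hx.2 _ hb))⟩
  have e2 := (Trans.card_le_of_le e0).trans h.card_fix
  have e3 := card_mul_relIndex (inf_le_right : A ⊓ B ≤ B)
  rw [inf_relIndex_right, e1, hB.card] at e3
  omega

theorem wc [Finite G] (h : KS A T V W i t u) (g : G) (hg : cj g A ≤ Nm A) : cj g A = A := by
  have p : IsPGroup 2 (cj g A) := isPGroup_cj (h.syl.isPGroup.to_le h.AT) g
  obtain ⟨n, hn, e⟩ := h.syl.exists_cj_le p hg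
  exact cj_injective n ((h.uniq ((h.el.conj g).conj n) e).trans (cj_eq_of_mem_normalizer hn).symm)

theorem top [Finite G] (h : KS A T V W i t u) : IsSylowIn 2 T ⊤ :=
  isSylowIn_of_maximal le_top h.syl.isPGroup fun S hS le _ => by
    by_contra hn
    have lt := lt_inf_normalizer hS (lt_of_le_not_ge le hn)
    exact lt.ne' (h.syl.eq_of_le (hS.to_le inf_le_left) lt.le fun x hx => cj_eq_self_iff.1
      (h.uniq (h.el.conj x) ((cj_mono x h.AT).trans (cj_eq_of_mem_normalizer hx.2).le)))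

theorem eq_of_le [Finite G] (h : KS A T V W i t u) {S : Subgroup G} (hS : IsPGroup 2 S)
    (h1 : A ≤ S) (h2 : cj x A ≤ S) : cj x A = A := by
  obtain ⟨g, -, e⟩ := h.top.exists_cj_le hS le_top
  exact cj_injective g ((h.uniq ((h.el.conj x).conj g) ((cj_mono g h2).trans e)).trans
    (h.uniq (h.el.conj g) ((cj_mono g h1).trans e)).symm)

theorem comm1 (h : KS A T V W i t u) (hx : x ∈ A ∨ x * i ∈ A) (hy : y ∈ T) : ⁅x, y⁆ ∈ A := by
  rcases hx with hx | hx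
  · have := A.mul_mem hx (h.conj hy (A.inv_mem hx))
    rwa [← mul_assoc, ← mul_assoc] at this
  · have e : y * i * y⁻¹ * i ∈ A := h.coset (T.mul_mem (T.mul_mem hy h.iT) (T.inv_mem hy))
      (fun e => h.iA ((mem_normalizer_iff.1 (h.syl.le hy) i).2 e))
      (by rw [show y * i * y⁻¹ * (y * i * y⁻¹) = y * (i * i) * y⁻¹ by group, h.i2]; simp)
    have := A.mul_mem (A.mul_mem hx (A.inv_mem e)) (h.conj hy (A.inv_mem hx))
    rw [show x * i * (y * i * y⁻¹ * i)⁻¹ * (y * (x * i)⁻¹ * y⁻¹) =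
      x * y * (i * i)⁻¹ * x⁻¹ * y⁻¹ by group, h.i2, inv_one, mul_one] at this
    exact this

theorem comm (h : KS A T V W i t u) (hx : x ∈ T) (hy : y ∈ T) : ⁅x, y⁆ ∈ A := by
  rcases or_assoc.2 (h.cs x hx) with e | e
  · exact h.comm1 e hy
  rcases or_assoc.2 (h.cs y hy) with f | f
  · exact commutatorElement_inv y x ▸ A.inv_mem (h.comm1 f hx)
  rcases or_assoc.2 (h.cs _ (T.mul_mem hx hy)) with k | k
  · have := h.comm1 k hy
    rwa [show ⁅x * y, y⁆ = ⁅x, y⁆ by simp only [commutatorElement_def]; group] at this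
  · exact absurd ((by rw [cj_mul, f.1.1, e.1.2] : cj (x * y) V = V).symm.trans k.1.1) h.ne

theorem tu (h : KS A T V W i t u) : ¬ (t * u ∈ V ∨ t * u ∈ W) := fun e => e.elim
  (fun e => h.u1 (h.eq_one ((V.mul_mem_cancel_left h.tV).1 e) h.uW))
  fun e => h.t1 (h.eq_one h.tV ((W.mul_mem_cancel_right h.uW).1 e))

theorem inv (h : KS A T V W i t u) {n : G} (hn : n ∈ Nm A) (hx : x ∈ V ∨ x ∈ W) :
    n * x * n⁻¹ ∈ V ∨ n * x * n⁻¹ ∈ W := by
  rcases h.pm n hn with k | ⟨k, -⟩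
  · exact hx.imp (mem_normalizer_conj k.1) (mem_normalizer_conj k.2)
  · exact hx.symm.imp (fun e => k.2 ▸ conj_mem_cj.2 e) fun e => k.1 ▸ conj_mem_cj.2 e

/-- Fusion among the fixed points of `i`. -/
theorem fus [Finite G] (h : KS A T V W i t u) {g : G} (hx : x ∈ A) (x1 : x ≠ 1)
    (xi : x * i = i * x) (hy : y ∈ A) (yi : y * i = i * y) (ne : x ≠ y) (e : g * x * g⁻¹ = y) :
    (x = t ∨ x = u) ∧ ∃ e ∈ T, Swp V W e ∧ e * i = i * e := by
  obtain ⟨n, hn, rfl⟩ : ∃ n ∈ Nm A, n * x * n⁻¹ = y := e ▸ h.el.fusion h.wc hx (e ▸ hy)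
  have y1 : n * x * n⁻¹ ≠ 1 := by simpa using x1
  have hx' : x = t ∨ x = u := by
    rcases (h.fix x hx xi).resolve_left x1 with k | k | k
    exacts [.inl k, .inr k, absurd (by
      have := fun e => h.inv (x := n * x * n⁻¹) (inv_mem hn) e
      rcases (h.fix _ hy yi).resolve_left y1 with l | l | l
      exacts [by simpa [mul_assoc, k] using this (.inl (l ▸ h.tV)),
        by simpa [mul_assoc, k] using this (.inr (l ▸ h.uW)), absurd (k.trans l.symm) ne]) h.tu]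
  refine ⟨hx', ((h.pm n hn).resolve_left fun k => ?_).2⟩
  have := h.inv hn (hx'.imp (fun e => e ▸ h.tV) fun e => e ▸ h.uW)
  rcases (h.fix _ hy yi).resolve_left y1 with l | l | l
  · have xu := hx'.resolve_left fun e => ne (e.trans l.symm)
    exact h.t1 (h.eq_one h.tV (l ▸ mem_normalizer_conj k.2 (xu ▸ h.uW)))
  · have xt := hx'.resolve_right fun e => ne (e.trans l.symm)
    exact h.u1 (h.eq_one (l ▸ mem_normalizer_conj k.1 (xt ▸ h.tV)) h.uW)
  · exact h.tu (l ▸ this)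

/-- A conjugate of `A` does not contain `i` together with its fixed points in `A`. -/
theorem not_le [Finite G] (h : KS A T V W i t u) {g : G} (hi : g * i * g⁻¹ ∈ A)
    (hc : ∀ c ∈ A, c * i = i * c → g * c * g⁻¹ ∈ A) : False := by
  have hE : (A ⊓ Cs i) ⊔ zpowers i ≤ cj g⁻¹ A :=
    sup_le (fun c k => mem_cj_inv.2 (hc c k.1 (mem_centralizer_singleton_iff.1 k.2)))
      (zpowers_le.2 (mem_cj_inv.2 hi))
  have h1 : A ≤ Nm ((A ⊓ Cs i) ⊔ zpowers i) := fun a ha => mem_normalizer_of_cj_le (by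
    rw [cj_sup, cj_of_le h.el inf_le_left ha, cj_zpowers]
    refine sup_le le_sup_left (zpowers_le.2 ?_)
    have k := h.conj h.iT (A.inv_mem ha)
    rw [show a * i * a⁻¹ = a * (i * a⁻¹ * i⁻¹) * i by group]
    refine mul_mem_sup ⟨A.mul_mem ha k, mem_centralizer_singleton_iff.2 ?_⟩ (mem_zpowers i)
    conv_rhs => rw [h.el.comm _ ha _ k, ← mul_assoc, ← mul_assoc, ← mul_assoc, h.i2, one_mul]
    rw [mul_assoc a, inv_mul_cancel_right, inv_eq_of_mul_eq_one_right (h.el.sq a ha),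
      inv_eq_of_mul_eq_one_right h.i2, mul_assoc])
  have h2 : cj g⁻¹ A ≤ Ce ((A ⊓ Cs i) ⊔ zpowers i) := fun b hb =>
    mem_centralizer_iff.2 fun x hx => (h.el.conj g⁻¹).comm _ (hE hx) _ hb
  have p := h.syl.isPGroup.to_le h.AT
  obtain ⟨S, hS, le⟩ := exists_isSylowIn_ge p h1
  obtain ⟨c, hc, e⟩ := hS.exists_cj_le (isPGroup_cj p g⁻¹) (h2.trans (centralizer_le_normalizer _))
  have h3 := cj_mono c h2
  rw [cj_cj] at e h3
  rw [h.eq_of_le hS.isPGroup le e, cj_centralizer, cj_eq_of_mem_normalizer hc] at h3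
  exact h.iA (h.cent (mem_centralizer_iff.2 fun a ha =>
    (mem_centralizer_iff.1 (h3 ha) i (mem_sup_right (mem_zpowers i))).symm))

theorem false [Finite G] (h : KS A T V W i t u) (hG : commutator G = ⊤) : False := by
  have i1 : i ≠ 1 := fun e => h.iA (e ▸ A.one_mem)
  have sq : ∀ {x : G}, orderOf x = 2 → x * x ∈ A := fun {x} e => by
    rw [← pow_two, ← e, pow_orderOf_eq_one]; exact A.one_mem
  obtain ⟨g, -, ha, hR⟩ := thompson_transfer_involution (H := T) (T := A)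
    (by simpa using h.top.not_dvd) (fun _ hx _ hy => h.comm hx hy)
    (fun x hx => (h.syl.isPGroup ⟨x, hx⟩).imp fun k e => by
      rw [show x ^ 2 ^ k = 1 from congrArg Subtype.val e]; exact A.one_mem)
    i (orderOf_eq_prime (by rw [pow_two, h.i2]) i1)
    (fun x hx y hy ox oy xA yA => h.mul_mem (h.coset hx xA (sq ox)) (h.coset hy yA (sq oy)))
    (by rw [hG]; simp) (T ⊓ Cs i) (h.syl.isPGroup.to_le inf_le_left)
    fun r hr => mem_centralizer_singleton_iff.1 hr.2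
  let φ := MulAut.conj g⁻¹
  have hφ : ∀ x, φ x = g⁻¹ * x * g := fun x => by simp [φ]
  replace hR : ∀ r ∈ T, r * i = i * r → φ r ∈ T := fun r hr e =>
    hφ r ▸ hR r ⟨hr, mem_centralizer_singleton_iff.2 e⟩
  rw [← hφ] at ha
  refine h.not_le (g := g⁻¹) ha fun b hb bi => by_contra fun bA => ?_
  have cos : ∀ c ∈ A, c * i = i * c → φ c ∉ A → φ c * i ∈ A := fun c hc e k =>
    h.coset (hR c (h.AT hc) e) k (by rw [← map_mul, h.el.sq c hc, map_one]; exact A.one_mem)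
  have b' := cos b hb bi bA
  obtain ⟨c, hc, c1, ci, cA⟩ : ∃ c ∈ A, c ≠ 1 ∧ c * i = i * c ∧ φ c ∈ A := by
    have tA := h.VA h.tV
    have uA := h.WA h.uW
    by_cases k : φ t ∈ A
    · exact ⟨t, tA, h.t1, h.ti, k⟩
    by_cases l : φ u ∈ A
    · exact ⟨u, uA, h.u1, h.ui, l⟩
    exact ⟨t * u, A.mul_mem tA uA, fun e => h.tu (.inl (e ▸ V.one_mem)),
      Commute.mul_left h.ti h.ui, map_mul φ t u ▸ h.mul_mem (cos t tA h.ti k) (cos u uA h.ui l)⟩
  obtain ⟨a, -, e⟩ := h.el.exists_comm (h.syl.le h.iT) (h.i2 ▸ one_mem _)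
    ((Nat.pow_le_pow_left h.card_fix 2).trans (by norm_num)) hc ci
  have ai := h.comm_i b' ha (by rw [← map_mul, ← map_mul, bi])
  obtain ⟨at', e, eT, es, ei⟩ := h.fus (g := φ a) ha (by simpa using i1) ai (A.mul_mem cA ha)
    (Commute.mul_left (h.comm_i b' cA (by rw [← map_mul, ← map_mul, h.el.comm _ hc _ hb])) ai)
    (by simpa using c1) (by rw [← map_inv, ← map_mul, ← map_mul, e, map_mul])
  have key : ∀ f ∈ T, Swp V W f → f * i = i * f → φ f * i ∈ A := fun f fT fs fi => by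
    have k : φ f * φ i * (φ f)⁻¹ = φ i := by rw [← map_mul, fi, map_mul, mul_inv_cancel_right]
    rcases h.cs _ (hR f fT fi) with l | l | ⟨l, -⟩
    · refine absurd ?_ (h.sq_not fT fs)
      rw [φ.injective (by rw [map_mul, h.el.sq _ l, map_one] : φ (f * f) = φ 1)]
      exact A.one_mem
    · exact l
    · rcases at' with m | m <;> rw [m] at k
      · exact absurd (h.eq_one h.tV (k ▸ l.1 ▸ conj_mem_cj.2 h.tV)) h.t1
      · exact absurd (h.eq_one (k ▸ l.2 ▸ conj_mem_cj.2 h.uW) h.uW) h.u1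
  have k1 := key e eT es ei
  have k2 := key (b * e) (T.mul_mem (h.AT hb) eT) (es.mul h.el h.VA h.WA hb)
    (Commute.mul_left bi ei)
  rw [map_mul, mul_assoc] at k2
  exact bA ((A.mul_mem_cancel_right k1).1 k2)

end KS

section Frame

variable [Finite G] {P : Subgroup G} {s : Fin 4 → G} {e g : G}

omit [Finite G] in
theorem not_mem (F : Fr P s) (hi : Iv P i) (hA : El A 16) (hP : P ≤ Nm A) : i ∉ A := fun k => by
  have e := hA.sq _ (A.mul_mem (mem_normalizer_conj (hP (F.mem 0)) k) (A.inv_mem k))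
  rw [show s 0 * i * (s 0)⁻¹ * i⁻¹ = s 0 * (i * s 0 * i⁻¹)⁻¹ by group, hi.inv _ (F.mem 0), inv_inv,
    ← pow_two, ← pow_two, ← pow_mul, ← orderOf_dvd_iff_pow_eq_one, F.ord] at e
  omega

omit [Finite G] in
theorem dec (hA : El A 16) (hV : A = V ⊔ W) (inf : V ⊓ W = ⊥) (hc : c ∈ A) (xV : x ∈ Nm V)
    (xW : x ∈ Nm W) (e : c * x = x * c) :
    ∃ v ∈ V, ∃ w ∈ W, c = v * w ∧ v * x = x * v ∧ w * x = x * w := by
  have VA : V ≤ A := hV ▸ le_sup_left
  have WA : W ≤ A := hV ▸ le_sup_right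
  have : c ∈ (V : Set G) * (W : Set G) := by
    rw [← coe_mul_of_right_le_normalizer_left V W fun w hw =>
      cj_eq_self_iff.1 (cj_of_le hA VA (WA hw)), ← hV]
    exact hc
  obtain ⟨v, hv, w, hw, rfl⟩ := this
  have k : v⁻¹ * (x * v * x⁻¹) = w * (x * w * x⁻¹)⁻¹ := by
    calc _ = v⁻¹ * (x * (v * w) * x⁻¹) * (x * w * x⁻¹)⁻¹ := by group
      _ = _ := by rw [← e]; group
  have k1 : v⁻¹ * (x * v * x⁻¹) = 1 := mem_bot.1 (inf ▸ mem_inf.2
    ⟨V.mul_mem (V.inv_mem hv) (mem_normalizer_conj xV hv),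
      k ▸ W.mul_mem hw (W.inv_mem (mem_normalizer_conj xW hw))⟩)
  exact ⟨v, hv, w, hw, rfl, eq_mul_inv_iff_mul_eq.1 (inv_mul_eq_one.1 k1),
    eq_mul_inv_iff_mul_eq.1 (mul_inv_eq_one.1 (k.symm.trans k1))⟩

theorem tri (h : Hy G) (F : Fr P s) (hi : Iv P i) (hA : El A 16) (h0 : Vs (s 0) ≠ ⊥)
    (h1 : Vs (s 1) ≠ ⊥) (hV : A = Vs (s 0) ⊔ Vs (s 1)) (gA : g ∈ Nm A) (gP : g ∈ Nm P) :
    g ∈ P ∨ g * i ∈ P ∨ Swp (Vs (s 0)) (Vs (s 1)) g ∧ Sw P s (g ^ 3) := by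
  have inf := F.V_inf h (show (0 : Fin 4) ≠ 1 by decide)
  have k : ∀ k, Vs (s k) ≠ ⊥ → Vs (s k) ≤ A → g * s k * g⁻¹ ∈ zpowers (s 0) ∨
      g * s k * g⁻¹ ∈ zpowers (s 1) := fun k ne le => by
    obtain ⟨j, m, e⟩ := F.exists_line gP k
    by_contra hn
    rw [not_or] at hn
    have j0 : j ≠ 0 := fun e => hn.1 (e ▸ m)
    have j1 : j ≠ 1 := fun e => hn.2 (e ▸ m)
    refine ne (cj_eq_bot.1 (e.trans (eq_bot_iff.2 fun c hc => ?_)))
    obtain ⟨v, hv, w, hw, rfl, e1, e2⟩ := dec hA hV inf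
      (((cj_mono g le).trans (cj_eq_of_mem_normalizer gA).le) (e ▸ hc)) (F.le_Nm_V 0 (F.mem j))
      (F.le_Nm_V 1 (F.mem j)) ((h.mem _ (F.ord j) c).1 hc).1
    rw [F.fpf h j0 hv e1, F.fpf h j1 hw e2, mul_one]
    exact one_mem _
  rcases k 0 h0 (hV ▸ le_sup_left) with k0 | k0
  · exact (F.line h hi gP k0).imp_right .inl
  rcases k 1 h1 (hV ▸ le_sup_right) with k1 | k1
  · exact .inr (.inr ⟨⟨F.cj_V k0, F.cj_V k1⟩, F.sw_of_swap h gP k0 k1⟩)
  · exact (F.line h hi gP k1).imp_right .inl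

omit [Finite G] in
theorem eq_one_of_mem (F : Fr P s) (hT : IsPGroup 2 T) (xT : x ∈ T) (xP : x ∈ P) : x = 1 := by
  obtain ⟨n, e⟩ := hT ⟨x, xT⟩
  have e1 : orderOf x ∣ 2 ^ n := orderOf_dvd_of_pow_eq_one (congrArg Subtype.val e)
  obtain k | ⟨k, rfl | rfl⟩ := F.cov x xP
  · exact k
  all_goals
    simp only [orderOf_inv, F.ord] at e1
    exact absurd (Nat.prime_three.dvd_of_dvd_pow e1) (by decide)

theorem exists_fix (hV : Nat.card (V ⊓ Cs i : Subgroup G) = 2) : ∃ t ∈ V, t ≠ 1 ∧ t * i = i * t ∧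
    ∀ c ∈ V, c * i = i * c → c = 1 ∨ c = t := by
  obtain ⟨t, t1, ht⟩ := (Nat.card_eq_two_iff' (1 : (V ⊓ Cs i : Subgroup G))).1 hV
  exact ⟨t, t.2.1, fun e => t1 (Subtype.ext e), mem_centralizer_singleton_iff.1 t.2.2,
    fun c hc e => (em _).imp_right fun c1 => congrArg Subtype.val
      (ht ⟨c, hc, mem_centralizer_singleton_iff.2 e⟩ fun k => c1 (congrArg Subtype.val k))⟩

theorem exists_ks (h : Hy G) (F : Fr P s) (hi : Iv P i) (hA : El A 16) (h0 : Vs (s 0) ≠ ⊥)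
    (h1 : Vs (s 1) ≠ ⊥) (hV : A = Vs (s 0) ⊔ Vs (s 1)) (hC : Ce A ≤ A)
    (hN : ∀ g ∈ Nm A, ∃ a ∈ A, a * g ∈ Nm P) (eA : e ∈ Nm A) (e4 : e ^ 2 ^ 2 = 1)
    (ie : i ∈ zpowers e) (he : (∃ g ∈ Nm A, Sw P s g) → Swp (Vs (s 0)) (Vs (s 1)) e) :
    ∃ T t u, KS A T (Vs (s 0)) (Vs (s 1)) i t u := by
  have inf := F.V_inf h (show (0 : Fin 4) ≠ 1 by decide)
  have VA : Vs (s 0) ≤ A := hV ▸ le_sup_left
  have WA : Vs (s 1) ≤ A := hV ▸ le_sup_right
  have hP : P ≤ Nm A := fun p hp => cj_eq_self_iff.1 (by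
    rw [hV, cj_sup, cj_eq_of_mem_normalizer (F.le_Nm_V 0 hp),
      cj_eq_of_mem_normalizer (F.le_Nm_V 1 hp)])
  obtain ⟨n, -, hn⟩ := (Nat.dvd_prime_pow Nat.prime_two).1 (orderOf_dvd_of_pow_eq_one e4)
  obtain ⟨T, hT, le⟩ := exists_isSylowIn_ge
    (IsPGroup.of_card (p := 2) ((Nat.card_zpowers e).trans hn)) (zpowers_le.2 eA)
  have AT : A ≤ T := hT.le_of_normal (IsPGroup.of_card (n := 4) hA.card) le_normalizer le_rfl
  obtain ⟨t, tV, t1, ti, ht⟩ := exists_fix (hi.card_fix h F h0)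
  obtain ⟨u, uW, u1, ui, hu⟩ := exists_fix (hi.card_fix h F h1)
  have k : ∀ g ∈ Nm A, ∃ a ∈ A, a * g ∈ P ∨ a * g * i ∈ P ∨
      Swp (Vs (s 0)) (Vs (s 1)) g ∧ Sw P s ((a * g) ^ 3) := fun g hg =>
    let ⟨a, ha, m⟩ := hN g hg
    ⟨a, ha, (tri h F hi hA h0 h1 hV (mul_mem (le_normalizer ha) hg) m).imp_right (.imp_right
      fun m => ⟨by simpa using m.1.mul hA VA WA (A.inv_mem ha), m.2⟩)⟩
  refine ⟨T, t, u, hA, hC, hT, AT, le ie, not_mem F hi hA hP, hi.sq, hi.nrm_V F 0, VA, WA, inf,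
    fun x hx => ?_, fun g hg => ?_, tV, uW, t1, u1, ti, ui, fun c hc ci => ?_⟩
  · obtain ⟨a, ha, m | m | m⟩ := k x (hT.le hx)
    · exact .inl ((A.mul_mem_cancel_left ha).1
        (eq_one_of_mem F hT.isPGroup (T.mul_mem (AT ha) hx) m ▸ A.one_mem))
    · exact .inr (.inl ((A.mul_mem_cancel_left ha).1 (mul_assoc a x i ▸ eq_one_of_mem F hT.isPGroup
        (T.mul_mem (T.mul_mem (AT ha) hx) (le ie)) m ▸ A.one_mem)))
    · refine .inr (.inr ⟨m.1, fun x2 => not_mem F m.2.iv hA hP ?_⟩)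
      rw [← pow_add, show 3 + 3 = 2 * 3 from rfl, pow_mul, pow_two,
        show a * x * (a * x) = a * (x * a * x⁻¹) * (x * x) by group]
      exact A.pow_mem (A.mul_mem (A.mul_mem ha (mem_normalizer_conj (hT.le hx) ha)) x2) 3
  · obtain ⟨a, ha, m⟩ := k g hg
    have l : ∀ j, Vs (s j) ≤ A → a * g ∈ P ∨ a * g * i ∈ P → g ∈ Nm (Vs (s j)) := fun j le m =>
      ((Nm _).mul_mem_cancel_left (cj_eq_self_iff.1 (cj_of_le hA le ha))).1 (m.elim (F.le_Nm_V j ·)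
        fun m => ((Nm _).mul_mem_cancel_right (hi.nrm_V F j)).1 (F.le_Nm_V j m))
    rcases or_assoc.2 m with m | m
    · exact .inl ⟨l 0 VA m, l 1 WA m⟩
    · obtain ⟨z, hz⟩ := ie
      exact .inr ⟨m.1, e, le (mem_zpowers e), he ⟨_, pow_mem (mul_mem (le_normalizer ha) hg) 3, m.2⟩,
        hz ▸ (Commute.refl e).zpow_right z⟩
  · obtain ⟨v, hv, w, hw, rfl, e1, e2⟩ := dec hA hV inf hc (hi.nrm_V F 0) (hi.nrm_V F 1) ci
    rcases ht v hv e1 with rfl | rfl <;> rcases hu w hw e2 with rfl | rfl <;> simp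

end Frame

end K2s

open K2s in
theorem k2small [Finite G] [IsSimpleGroup G] {P : Subgroup G} {s : Fin 4 → G} {i : G}
    (hG : ¬ IsMulCommutative G) (h : Hy G) (F : Fr P s) (hi : Iv P i) {A : Subgroup G}
    (hA : El A 16) (h0 : Vs (s 0) ≠ ⊥) (h1 : Vs (s 1) ≠ ⊥) (hV : A = Vs (s 0) ⊔ Vs (s 1))
    (hC : Ce A ≤ A) (hN : ∀ g ∈ Nm A, ∃ a ∈ A, a * g ∈ Nm P) : False := by
  have hG' : commutator G = ⊤ := (Normal.eq_bot_or_eq_top inferInstance).resolve_left fun e =>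
    hG ((commutator_eq_bot_iff G).1 e)
  by_cases k : ∃ g ∈ Nm A, Sw P s g
  · obtain ⟨e, eA, he⟩ := k
    obtain ⟨T, t, u, K⟩ := exists_ks h F he.iv hA h0 h1 hV hC hN eA
      (by rw [← he.iv.sq, ← pow_two, ← pow_two, ← pow_mul]; rfl)
      (mul_mem (mem_zpowers e) (mem_zpowers e)) fun _ => ⟨F.cj_V he.s0, F.cj_V he.s1⟩
    exact K.false hG'
  · obtain ⟨T, t, u, K⟩ := exists_ks h F hi hA h0 h1 hV hC hN (e := i) (cj_eq_self_iff.1 (by
      rw [hV, cj_sup, cj_eq_of_mem_normalizer (hi.nrm_V F 0),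
        cj_eq_of_mem_normalizer (hi.nrm_V F 1)]))
      (by rw [pow_two 2, pow_mul, pow_two i, hi.sq, one_pow]) (mem_zpowers i) fun e => absurd e k
    exact K.false hG'

end Cfsg.Lib.T33
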