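import Cfsg.Agent.T33.BasicA
import Cfsg.Agent.CITCor.EPPO
import Cfsg.Agent.Known.TOrdSmall
import Cfsg.Agent.Block.ZhA7
import Cfsg.Agent.Class.PGL2Sub

/-! # Centralizers of elements of order three: the linear groups -/

set_option autoImplicit false

namespace Cfsg.Lib.T33

open Cfsg.Lib.Known Polynomial

universe u

theorem Hy.nine {G : Type u} [Group G] [Finite G] (h : Hy G) (hex : ∃ x : G, orderOf x = 3) :
    3 ^ 2 ∣ Nat.card G ∧ ¬ 3 ^ 3 ∣ Nat.card G := by
  simp only [Nat.prime_three.pow_dvd_iff_le_factorization Nat.card_pos.ne', h.fact3 hex]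
  omega

theorem Hy.dvd_six {G : Type u} [Group G] [Finite G] (h : Hy G) {o : ℕ}
    (ho : o ∈ Set.range (orderOf : G → ℕ)) (h3 : 3 ∣ o) : o ∣ 6 := by
  obtain ⟨x, rfl⟩ := ho
  exact orderOf_dvd_of_pow_eq_one (h.pow_six h3)

theorem cop3 {n : ℕ} (h : ¬ 3 ∣ n) (k : ℕ) : (3 ^ k).Coprime n :=
  ((Nat.prime_three.coprime_iff_not_dvd).2 h).pow_left k

theorem gcd_two_cases (n : ℕ) : Nat.gcd 2 n = 1 ∨ Nat.gcd 2 n = 2 :=
  (Nat.dvd_prime Nat.prime_two).1 (Nat.gcd_dvd_left 2 n)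

theorem dvd_div_gcd {q n k : ℕ} (hq : 1 ≤ q) (hn : n = q - 1 ∨ n = q + 1) (h : 3 ^ k ∣ n) :
    3 ^ k ∣ n / Nat.gcd 2 (q - 1) := by
  have h1 := Nat.gcd_dvd_right 2 (q - 1)
  rcases gcd_two_cases (q - 1) with e | e <;> rw [e] at h1 ⊢
  · rwa [Nat.div_one]
  · obtain ⟨m, rfl⟩ : 2 ∣ n := by omega
    rw [Nat.mul_div_cancel_left _ two_pos]
    exact (cop3 (by norm_num) k).dvd_of_dvd_mul_left h

theorem psl2_card {F : Type} [Field F] [Fintype F]
    (h : Hy (Matrix.ProjectiveSpecialLinearGroup (Fin 2) F))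
    (hex : ∃ x : Matrix.ProjectiveSpecialLinearGroup (Fin 2) F, orderOf x = 3) :
    Fintype.card F = 9 := by
  obtain ⟨h9, h27⟩ := h.nine hex
  have hc := Class.gcd_mul_card_PSL2 (F := F)
  rw [Nat.card_eq_fintype_card (α := F)] at hc
  have h9' := hc ▸ h9.mul_left (Nat.gcd 2 (Fintype.card F - 1))
  have hg := gcd_two_cases (Fintype.card F - 1)
  have h27' : ¬ 3 ^ 3 ∣ Fintype.card F * (Fintype.card F - 1) * (Fintype.card F + 1) := fun e =>
    h27 ((cop3 (by omega) 3).dvd_of_dvd_mul_left (hc ▸ e))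
  obtain ⟨h1, h2⟩ := CITCor.exists_orderOf_psl2 F
  have hq : 1 < Fintype.card F := Fintype.one_lt_card
  by_cases a : 3 ∣ Fintype.card F
  · obtain ⟨n, -, hn⟩ := CITCor.eq_pow_of_isPrimePow Nat.prime_three (FiniteField.isPrimePow_card F) a
    have k1 := (cop3 (by omega) 2).dvd_of_dvd_mul_right
      ((cop3 (by omega) 2).dvd_of_dvd_mul_right h9')
    have k2 : ¬ 3 ^ 3 ∣ Fintype.card F := fun e => h27' ((e.mul_right _).mul_right _)
    rw [hn, Nat.pow_dvd_pow_iff_le_right (by norm_num)] at k1 k2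
    rw [hn, show n = 2 by omega]; rfl
  exfalso
  by_cases b : 3 ∣ Fintype.card F - 1
  · have k1 := (cop3 a 2).dvd_of_dvd_mul_left ((cop3 (by omega) 2).dvd_of_dvd_mul_right h9')
    have k2 := dvd_div_gcd hq.le (.inl rfl) k1
    exact absurd (k2.trans (h.dvd_six h1 (Dvd.dvd.trans (by norm_num) k2))) (by norm_num)
  · have k1 := (cop3 (n := Fintype.card F * (Fintype.card F - 1))
      (fun e => (Nat.prime_three.dvd_mul.1 e).elim a b) 2).dvd_of_dvd_mul_left h9'
    have k2 := dvd_div_gcd hq.le (.inr rfl) k1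
    exact absurd (k2.trans (h.dvd_six h2 (Dvd.dvd.trans (by norm_num) k2))) (by norm_num)

theorem psl3_card {F : Type} [Field F] [Fintype F]
    (h : Hy (Matrix.ProjectiveSpecialLinearGroup (Fin 3) F)) :
    Fintype.card F = 4 ∨ Fintype.card F = 7 := by
  have hc := Block.Zh.gcd_mul_card_psl3 F
  have hq : 1 < Fintype.card F := Fintype.one_lt_card
  have hex : 3 ∣ Nat.card (Matrix.ProjectiveSpecialLinearGroup (Fin 3) F) →
      ∃ x : Matrix.ProjectiveSpecialLinearGroup (Fin 3) F, orderOf x = 3 := fun e =>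
    have : Fact (Nat.Prime 3) := ⟨Nat.prime_three⟩
    exists_prime_orderOf_dvd_card' 3 e
  by_cases b : 3 ∣ Fintype.card F - 1
  · obtain ⟨a, a0, ha⟩ := exists_orderOf_eq_of_dvd_card_sub_one (K := F) dvd_rfl
    have hs := isGLType_add (isGLType_add (isGLType_X_sub_C a0 one_pos)
      (isGLType_X_sub_C (inv_ne_zero a0) one_pos)) (isGLType_X_sub_C (one_ne_zero (α := F)) one_pos)
    have := Nat.le_of_dvd (by norm_num) (h.dvd_six (mem_spec_PSL_of_type hs
      (by simp only [tDet_add, tDet_X_sub_C]; simp [a0])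
      (hs.orderOf_div_dvd_of_mem (a := a) (b := 1) (e := 1) (f := 1) (by simp) (by simp)))
      (by rwa [div_one, ha]))
    rw [div_one, ha] at this
    omega
  exfalso
  rw [(Nat.prime_three.coprime_iff_not_dvd.2 b).gcd_eq_one, one_mul] at hc
  by_cases a : 3 ∣ Fintype.card F
  · have k : 3 ^ 3 ∣ Nat.card (Matrix.ProjectiveSpecialLinearGroup (Fin 3) F) :=
      hc ▸ ((pow_dvd_pow_of_dvd a 3).mul_right _).mul_right _
    exact (h.nine (hex (Dvd.dvd.trans (by norm_num) k))).2 k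
  obtain ⟨s, hs, h1, h2⟩ := mem_spec_PSL_iff.1 (CITCor.exists_orderOf_psl2 F).2
  have hg := gcd_two_cases (Fintype.card F - 1)
  have h3 := Nat.gcd_dvd_right 2 (Fintype.card F - 1)
  have h4 := mem_spec_PSL_of_type_le (n := 3) hs h1 (by simp) dvd_rfl
  have h5 : 3 ∣ tOrd s := h2 ▸ dvd_div_gcd (k := 1) hq.le (.inr rfl) (by omega)
  have h6 := Nat.le_of_dvd (by norm_num) (h.dvd_six h4 h5)
  have h7 := (h.nine (mem_spec_PSL_of_type_le (n := 3) hs h1 (by simp) h5)).1
  rw [hc] at h7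
  rw [h2] at h6
  have h8 : Fintype.card F = 2 ∨ Fintype.card F = 5 ∨ Fintype.card F = 11 := by
    have h9 : Fintype.card F ≤ 12 := by rcases hg with e | e <;> rw [e] at h6 <;> omega
    generalize Fintype.card F = q at *
    clear h7 h2 hc
    interval_cases q <;> simp_all
  rcases h8 with e | e | e <;> rw [e] at h7 <;> omega

end Cfsg.Lib.T33
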