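import Cfsg.Agent.T33.ListL
import Cfsg.Agent.Known.SpecU
import Cfsg.Agent.Class.HermSimple
import Cfsg.Agent.S0434
import Cfsg.Agent.Spor.M23Classes

/-! # Centralizers of elements of order three: the unitary groups, `M₁₁` and `M₂₃` -/

set_option autoImplicit false

namespace Cfsg.Lib.T33

open Cfsg.Lib.Known Cfsg.Lib.Class Polynomial

universe u

section

variable {F : Type*} [Field F] [Fintype F] {q : ℕ}

theorem succ_mem_spec (hF : Fintype.card F = q ^ 2) :
    q + 1 ∈ Set.range (orderOf : Cfsg.PSU 3 F q → ℕ) := by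
  obtain ⟨l, hl0, hl⟩ := exists_orderOf_eq_of_dvd_add_one hF (dvd_refl (q + 1))
  have hl1 : l ^ (q + 1) = 1 := hl ▸ pow_orderOf_eq_one l
  have hl2 : l⁻¹ ^ (q + 1) = 1 := by rw [inv_pow, hl1, inv_one]
  have hs := ((isGUType_X_sub_C hF hl1 one_pos).add
    (isGUType_X_sub_C hF hl2 one_pos)).add (isGUType_X_sub_one hF one_pos)
  refine mem_spec_PSU_of_dvd hF (by omega) hs (by
    simp only [tDet_add, tDet_X_sub_C, tDet_X_sub_one]; simp [hl0]) ?_
  have := hs.1.pow_tOrd_eq (θ := algebraMap F _ l) (θ' := 1)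
    (by simp only [eig_add, eig_singleton]; simp) (by simp only [eig_add, eig_singleton]; simp)
  rw [one_pow, ← map_pow, map_eq_one_iff _ (algebraMap F (Ec F)).injective] at this
  rw [← hl]
  exact orderOf_dvd_of_pow_eq_one this

theorem sq_mem_spec (hF : Fintype.card F = q ^ 2) (hq3 : 3 ≤ q) :
    (q ^ 2 - 1) / Nat.gcd 3 (q + 1) ∈ Set.range (orderOf : Cfsg.PSU 3 F q → ℕ) := by
  obtain ⟨g, hg⟩ := IsCyclic.exists_ofOrder_eq_natCard (α := Fˣ)
  rw [Nat.card_units, Nat.card_eq_fintype_card, hF, ← orderOf_units] at hg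
  have hg0 : (g : F) ≠ 0 := g.ne_zero
  generalize (g : F) = a at hg hg0
  have h6 : q ^ 2 - 1 = (q + 1) * (q - 1) := Nat.sq_sub_sq q 1
  have ha0 : algebraMap F (Ec F) a ≠ 0 := by simpa using hg0
  have hD : pdeg (frobq hF) (algebraMap F (Ec F) a) = 2 := by
    refine ((Nat.dvd_prime Nat.prime_two).mp ((pdeg_frobq_dvd_iff hF ha0 2).mpr ?_)).resolve_left
      fun h1 => ?_
    · rw [← mul_one 2, zpow_neg_pow_two_mul hF, algebraMap_pow_card_pow]
    · rw [pdeg_frobq_eq_one_iff hF ha0, ← map_pow, map_eq_one_iff _ (algebraMap F (Ec F)).injective,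
        ← orderOf_dvd_iff_pow_eq_one, hg, h6] at h1
      have := Nat.le_of_dvd (by omega) h1
      have h2 : 2 ≤ q - 1 := by omega
      nlinarith
  have hc : (a ^ (q - 1)) ^ (q + 1) = 1 := by
    rw [← pow_mul', ← h6, ← hg, pow_orderOf_eq_one]
  have hs := (isGUType_piece hF ha0 one_pos).add (isGUType_X_sub_C hF hc one_pos)
  rw [hD] at hs
  refine mem_spec_PSU_of_dvd hF (by omega) hs ((algebraMap F (Ec F)).injective ?_) ?_
  · rw [tDet_add, tDet_X_sub_C, map_mul, algebraMap_tDet_piece_frobq hF ha0, hD, pow_one, map_one]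
    simp only [Finset.sum_range_succ, Finset.range_zero, Finset.sum_empty, pow_zero, pow_one,
      zero_add, zpow_add₀ ha0, zpow_one, zpow_neg, zpow_natCast, map_pow]
    rw [mul_right_comm, ← pow_succ', Nat.sub_add_cancel (by omega),
      mul_inv_cancel₀ (pow_ne_zero _ ha0)]
  · have h1 := hs.1.pow_tOrd_eq (θ := algebraMap F _ a) (θ' := algebraMap F _ (a ^ (q - 1)))
      (eig_add.mpr (Or.inl (eig_piece_self _ _))) (by simp only [eig_add, eig_singleton]; simp)
    have h2 := hs.1.pow_tOrd_eq (θ := algebraMap F _ a) (θ' := algebraMap F _ (a ^ q)⁻¹)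
      (eig_add.mpr (Or.inl (eig_piece_self _ _)))
      (eig_add.mpr (Or.inl ((eig_piece_frobq hF ha0).mpr ⟨1, by simp⟩)))
    rw [← map_pow, ← map_pow, (algebraMap F (Ec F)).injective.eq_iff] at h1 h2
    generalize tOrd (K := F) _ = k at h1 h2 ⊢
    rw [inv_pow, ← mul_eq_one_iff_eq_inv₀ (pow_ne_zero _ (pow_ne_zero _ hg0)), ← mul_pow,
      ← pow_succ', ← pow_mul'] at h2
    have h3 : a ^ (k * 3) = 1 := by
      rw [← h2, show q + 1 = q - 1 + 2 by omega, mul_add, pow_add, pow_mul' a k (q - 1), ← h1,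
        ← pow_add]
      congr 1
      ring
    rw [← orderOf_dvd_iff_pow_eq_one, hg] at h2 h3
    rw [Nat.div_dvd_iff_dvd_mul ((Nat.gcd_dvd_right _ _).trans ⟨_, h6⟩)
      (Nat.gcd_pos_of_pos_left _ three_pos), mul_comm, ← Nat.gcd_mul_left]
    exact Nat.dvd_gcd h3 h2

end

theorem psu3_card {F : Type} [Field F] [Fintype F] {q : ℕ} (hq : Fintype.card F = q ^ 2)
    (h : Hy (Cfsg.PSU 3 F q)) (hex : ∃ x : Cfsg.PSU 3 F q, orderOf x = 3) : q = 2 ∨ q = 5 := by
  have h2 := two_le_of_card_sq hq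
  by_cases b : 3 ∣ q + 1
  · have := Nat.le_of_dvd (by norm_num) (h.dvd_six (succ_mem_spec hq) b)
    omega
  exfalso
  have hg := (Nat.prime_three.coprime_iff_not_dvd.2 b).gcd_eq_one
  by_cases a : 3 ∣ q
  · have hc := Form.card_PSU hq 3 (by norm_num)
    rw [hg, one_mul] at hc
    refine (h.nine hex).2 ((cop3 b 3).dvd_of_dvd_mul_left (hc ▸ ?_))
    exact (pow_dvd_pow_of_dvd a 3).mul_right _
  have h3 := sq_mem_spec hq (by omega)
  rw [hg, Nat.div_one, show q ^ 2 - 1 = (q + 1) * (q - 1) from Nat.sq_sub_sq q 1] at h3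
  have h4 := Nat.le_of_dvd (by norm_num) (h.dvd_six h3 (Dvd.dvd.mul_left (by omega) _))
  have h5 : 5 * 3 ≤ (q + 1) * (q - 1) := Nat.mul_le_mul (by omega) (by omega)
  omega

variable {G : Type u} [Group G]

theorem not_m11 [Finite G] (h : Hy G) : ¬ Cfsg.IsM11 G := by
  intro hG
  have := hG.1
  obtain ⟨e⟩ := Spor.O7920.isoM11 hG.2
  have h' := h.congr e
  have : Fact (Nat.Prime 3) := ⟨Nat.prime_three⟩
  obtain ⟨x, hx⟩ := exists_prime_orderOf_dvd_card' (G := Cfsg.Spor.M11) 3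
    (by rw [Spor.MP.card_M11]; norm_num)
  have h1 := h'.cardC x hx
  rw [((Agent.S0434.facts x).2 hx).1] at h1
  rcases h'.card x hx with h2 | h2
  · rw [h2, Subgroup.card_bot] at h1; omega
  · omega

theorem not_m23 [Finite G] (h : Hy G) : ¬ Cfsg.Spor.IsoM23 G := by
  rintro ⟨e⟩
  have hr : (981411434201502119878903004397912520, 15, 15) ∈ Spor.MP.reps23 := by decide
  have h1 := (h.congr e).dvd_six (o := 15) ⟨⟨_, (Spor.MP.isClassList_M23.mem _ hr).2⟩, by
    rw [← Subgroup.orderOf_coe]; exact Spor.MP.isClassList_M23.ord _ hr⟩ (by norm_num)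
  norm_num at h1

end Cfsg.Lib.T33
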