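import Cfsg.Agent.T33.BasicA
import Cfsg.Agent.Solv.CoprimeGen
import Cfsg.Agent.Solv.CoprimeSylow
import Cfsg.Agent.Solv.Conj
import Cfsg.Agent.Recog.FTStar

/-!
# Groups with small centralizers of elements of order three: the subgroups `V k`
-/

set_option autoImplicit false

namespace Cfsg.Lib.T33

open Subgroup Cfsg.Lib.Trans
open scoped Pointwise

universe u v

variable {G : Type u} [Group G] {P : Subgroup G} {s : Fin 4 → G} {i e : G}

theorem mem_sup_nm {K T : Subgroup G} (h : T ≤ Nm K) {x : G} :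
    x ∈ K ⊔ T ↔ ∃ k ∈ K, ∃ t ∈ T, x = k * t := by
  rw [← SetLike.mem_coe, coe_mul_of_right_le_normalizer_left _ _ h]
  exact ⟨fun ⟨k, hk, t, ht, e⟩ => ⟨k, hk, t, ht, e.symm⟩,
    fun ⟨k, hk, t, ht, e⟩ => ⟨k, hk, t, ht, e.symm⟩⟩

theorem nm_inf {g : G} {A B : Subgroup G} (hA : g ∈ Nm A) (hB : g ∈ Nm B) : g ∈ Nm (A ⊓ B) := by
  rw [← cj_eq_self_iff, cj_inf, cj_eq_of_mem_normalizer hA, cj_eq_of_mem_normalizer hB]

theorem nm_sup {g : G} {A B : Subgroup G} (hA : g ∈ Nm A) (hB : g ∈ Nm B) : g ∈ Nm (A ⊔ B) := by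
  rw [← cj_eq_self_iff, cj_sup, cj_eq_of_mem_normalizer hA, cj_eq_of_mem_normalizer hB]

theorem four_cases [Finite G] {V : Subgroup G} (h4 : Nat.card V ≤ 4) {a b c : G} (ha : a ∈ V)
    (hb : b ∈ V) (hc : c ∈ V) (a1 : a ≠ 1) (b1 : b ≠ 1) (c1 : c ≠ 1) (ab : a ≠ b) (ac : a ≠ c)
    (bc : b ≠ c) {v : G} (hv : v ∈ V) : v = 1 ∨ v = a ∨ v = b ∨ v = c := by
  have h1 : ({1, a, b, c} : Set G) = V := Set.eq_of_subset_of_ncard_le (by
    rintro x (rfl | rfl | rfl | rfl)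
    exacts [one_mem _, ha, hb, hc]) (by
    rw [Set.ncard_insert_of_notMem (by simp [a1.symm, b1.symm, c1.symm]),
      Set.ncard_insert_of_notMem (by simp [ab, ac]), Set.ncard_pair bc]
    exact h4)
  have h2 : v ∈ ({1, a, b, c} : Set G) := h1 ▸ hv
  simpa using h2

section El

variable [Finite G] {A : Subgroup G} {n : ℕ} {j : G}

omit [Finite G] in
theorem El.exists_hom (hA : El A n) (hj : j ∈ Nm A) (h2 : j * j ∈ Ce A) :
    ∃ R : Subgroup G, R ≤ A ⊓ Cs j ∧ n = Nat.card (A ⊓ Cs j : Subgroup G) * Nat.card R ∧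
      ∀ c ∈ R, ∃ a ∈ A, a * j * a⁻¹ = c * j := by
  let φ : A →* G := MonoidHom.mk' (fun a => a * (j * a * j⁻¹)) fun a b => by
    have := hA.comm _ b.2 _ (mem_normalizer_conj hj a.2)
    push_cast
    calc _ = a * (b * (j * a * j⁻¹)) * (j * b * j⁻¹) := by group
      _ = _ := by rw [this]; group
  have hk : φ.ker = (A ⊓ Cs j).subgroupOf A := by
    ext a
    rw [MonoidHom.mem_ker, mem_subgroupOf, mem_inf, mem_Cs]
    change (a : G) * (j * a * j⁻¹) = 1 ↔ _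
    rw [← eq_inv_iff_mul_eq_one, ← hA.inv_eq (inv_mem (mem_normalizer_conj hj a.2)), inv_inv,
      eq_mul_inv_iff_mul_eq]
    exact ⟨fun h => ⟨a.2, h⟩, fun h => h.2⟩
  refine ⟨φ.range, ?_, ?_, ?_⟩
  · rintro _ ⟨a, rfl⟩
    refine ⟨mul_mem a.2 (mem_normalizer_conj hj a.2), mem_Cs.2 ?_⟩
    change (a : G) * (j * a * j⁻¹) * j = j * (a * (j * a * j⁻¹))
    have h3 := mem_Ce.1 h2 _ a.2
    have h4 := hA.comm _ a.2 _ (mem_normalizer_conj hj a.2)
    calc _ = j * a * j⁻¹ * a * j := by rw [h4]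
      _ = j * a * j⁻¹ * (a * (j * j)) * j⁻¹ := by group
      _ = j * a * j⁻¹ * (j * j * a) * j⁻¹ := by rw [h3]
      _ = _ := by group
  · rw [← hA.card, ← Nat.card_congr (subgroupOfEquivOfLe inf_le_left).toEquiv, ← hk,
      ← φ.ker.card_mul_index, index_ker]
  · rintro _ ⟨a, rfl⟩
    refine ⟨a, a.2, ?_⟩
    change _ = (a : G) * (j * a * j⁻¹) * j
    rw [hA.inv_eq a.2]; group

theorem El.le_sq_fix (hA : El A n) (hj : j ∈ Nm A) (h2 : j * j ∈ Ce A) :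
    n ≤ Nat.card (A ⊓ Cs j : Subgroup G) ^ 2 := by
  obtain ⟨R, h1, h3, -⟩ := hA.exists_hom hj h2
  rw [h3, pow_two]
  exact Nat.mul_le_mul_left _ (Trans.card_le_of_le h1)

theorem El.exists_comm (hA : El A n) (hj : j ∈ Nm A) (h2 : j * j ∈ Ce A)
    (hf : Nat.card (A ⊓ Cs j : Subgroup G) ^ 2 ≤ n) {c : G} (hc : c ∈ A) (hcj : c * j = j * c) :
    ∃ a ∈ A, a * j * a⁻¹ = c * j := by
  obtain ⟨R, h1, h3, h4⟩ := hA.exists_hom hj h2
  rw [h3, pow_two] at hf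
  exact h4 c (eq_of_le_of_card_ge h1 (Nat.le_of_mul_le_mul_left hf Nat.card_pos) ▸
    ⟨hc, mem_Cs.2 hcj⟩)

/-- A weakly closed subgroup is normal in every `2`-group containing it. -/
theorem le_Nm_of_wc (hw : ∀ g, cj g A ≤ Nm A → cj g A = A) {S : Subgroup G} (hS : IsPGroup 2 S)
    (hA : A ≤ S) : S ≤ Nm A := by
  have := Fact.mk Nat.prime_two
  by_contra hn
  obtain ⟨x, ⟨x1, x2⟩, x3⟩ := SetLike.exists_of_lt (lt_inf_normalizer hS
    (lt_of_le_of_ne (inf_le_left (a := S) (b := Nm A)) fun e => hn (e ▸ inf_le_right)))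
  refine x3 ⟨x1, cj_eq_self_iff.1 (hw x (le_trans ?_ (inf_le_right (a := S))))⟩
  rw [← cj_eq_of_mem_normalizer x2]
  exact cj_mono x (le_inf hA le_normalizer)

theorem El.fusion (hA : El A n) (hw : ∀ g, cj g A ≤ Nm A → cj g A = A) {a g : G} (ha : a ∈ A)
    (hg : g * a * g⁻¹ ∈ A) : ∃ m ∈ Nm A, m * a * m⁻¹ = g * a * g⁻¹ := by
  have := Fact.mk Nat.prime_two
  obtain ⟨S, hS, le⟩ := exists_isSylowIn_ge hA.pgroup (H := Cs (g * a * g⁻¹))
    fun x hx => mem_Cs.2 (hA.comm _ hx _ hg)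
  obtain ⟨c, hc, h1⟩ := hS.exists_cj_le (hA.conj g).pgroup
    fun x hx => mem_Cs.2 ((hA.conj g).comm _ hx _ (conj_mem_cj.2 ha))
  rw [cj_cj] at h1
  refine ⟨c * g, cj_eq_self_iff.1 (hw _ (h1.trans (le_Nm_of_wc hw hS.isPGroup le))), ?_⟩
  calc _ = c * (g * a * g⁻¹) * c⁻¹ := by group
    _ = _ := by rw [mem_Cs.1 hc, mul_inv_cancel_right]

end El

variable [Finite G]

theorem Fr.cent_s (h : Hy G) (F : Fr P s) (k : Fin 4) {g : G} (hg : g * s k = s k * g) :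
    ∃ p ∈ P, ∃ v ∈ Vs (s k), g = p * v := by
  have h1 : Vs (s k) ⊔ P = Cs (s k) := eq_of_le_of_card_ge
    (sup_le (fun v hv => mem_Cs.2 (h.comm (F.ord k) hv)) fun p hp =>
      mem_Cs.2 (F.comm p hp _ (F.mem k))) (by
    rw [Solv.card_sup_of_disjoint_of_le_normalizer (F.le_Nm_V k) (eq_bot_iff.2 fun x hx =>
      F.eq_one_of_sq hx.2 (h.sq (F.ord k) hx.1)), h.cardC _ (F.ord k), F.card, mul_comm])
  obtain ⟨v, hv, p, hp, rfl⟩ := (mem_sup_nm (F.le_Nm_V k)).1 (h1 ▸ mem_Cs.2 hg)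
  exact ⟨p, hp, _, mem_normalizer_conj' (F.le_Nm_V k hp) hv, by group⟩

theorem Fr.mem_of_comm (h : Hy G) (F : Fr P s) {g : G} (hg : g ∈ Nm P) {k : Fin 4}
    (hc : g * s k = s k * g) : g ∈ P := by
  obtain ⟨p, hp, v, hv, rfl⟩ := F.cent_s h k hc
  obtain ⟨j, hj⟩ := exists_ne k
  have v1 : v ∈ Nm P := (mul_mem_cancel_left (le_normalizer hp)).1 hg
  have h1 : v * s j * v⁻¹ * (s j)⁻¹ ∈ Vs (s k) := by
    have := mul_mem hv (mem_normalizer_conj (F.le_Nm_V k (F.mem j)) (inv_mem hv))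
    rwa [← mul_assoc, ← mul_assoc] at this
  have h2 := F.eq_one_of_sq (mul_mem (mem_normalizer_conj v1 (F.mem j)) (inv_mem (F.mem j)))
    (h.sq (F.ord k) h1)
  rw [F.fpf h hj hv (mul_inv_eq_iff_eq_mul.1 (mul_inv_eq_one.1 h2)), mul_one]
  exact hp

theorem Fr.mem_of_comm' (h : Hy G) (F : Fr P s) {g x : G} (hg : g ∈ Nm P) (hx : x ∈ P) (x1 : x ≠ 1)
    (hc : g * x = x * g) : g ∈ P := by
  rcases F.cov x hx with e | ⟨k, rfl | rfl⟩
  · exact absurd e x1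
  · exact F.mem_of_comm h hg hc
  · exact F.mem_of_comm h hg (Commute.inv_right_iff.1 hc)

omit [Finite G] in
theorem Fr.ne_inv (F : Fr P s) (k : Fin 4) : s k ≠ (s k)⁻¹ := fun e =>
  ne_one_of_ord (F.ord k) (F.eq_one_of_sq (F.mem k) (eq_inv_iff_mul_eq_one.1 e))

theorem Fr.line (h : Hy G) (F : Fr P s) (hi : Iv P i) {g : G} (hg : g ∈ Nm P) {k : Fin 4}
    (hc : g * s k * g⁻¹ ∈ zpowers (s k)) : g ∈ P ∨ g * i ∈ P := by
  rcases mem_zpowers_three (F.ord k) hc with e | e | e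
  · exact absurd (conj_eq_one_iff.1 e) (ne_one_of_ord (F.ord k))
  · exact .inl (F.mem_of_comm h hg (mul_inv_eq_iff_eq_mul.1 e))
  · refine .inr (F.mem_of_comm h (mul_mem hg hi.nrm) (k := k) (mul_inv_eq_iff_eq_mul.1 ?_))
    calc _ = g * (i * s k * i⁻¹) * g⁻¹ := by group
      _ = (g * s k * g⁻¹)⁻¹ := by rw [hi.inv _ (F.mem k)]; group
      _ = _ := by rw [e, inv_inv]

theorem Fr.inv_all (h : Hy G) (F : Fr P s) {g : G} (hg : g ∈ Nm P) {k : Fin 4}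
    (hc : g * s k * g⁻¹ = (s k)⁻¹) : g * g ∈ P ∧ ∀ x ∈ P, g * x * g⁻¹ = x⁻¹ := by
  have h2 : g * g ∈ P := F.mem_of_comm h (mul_mem hg hg) (k := k) (mul_inv_eq_iff_eq_mul.1 (by
    calc _ = g * (g * s k * g⁻¹) * g⁻¹ := by group
      _ = g * (s k)⁻¹ * g⁻¹ := by rw [hc]
      _ = (g * s k * g⁻¹)⁻¹ := by group
      _ = _ := by rw [hc, inv_inv]))
  refine ⟨h2, fun x hx => ?_⟩
  by_contra hn
  have hx' := mem_normalizer_conj hg hx
  have := F.mem_of_comm' h hg (mul_mem hx hx') (fun e => hn (eq_inv_of_mul_eq_one_right e)) (by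
    calc _ = g * x * g⁻¹ * (g * g * x) * g⁻¹ := by group
      _ = g * x * g⁻¹ * x * g := by rw [F.comm _ h2 _ hx]; group
      _ = _ := by rw [F.comm _ hx' _ hx])
  rw [F.comm _ this _ (F.mem k), mul_inv_cancel_right] at hc
  exact F.ne_inv k hc

theorem Fr.iv_of_inv (h : Hy G) (F : Fr P s) {g : G} (hg : g ∈ Nm P) {k : Fin 4}
    (hc : g * s k * g⁻¹ = (s k)⁻¹) : Iv P (g ^ 3) := by
  obtain ⟨h1, h2⟩ := F.inv_all h hg hc
  refine ⟨by rw [← F.cube h1]; simp only [pow_succ, pow_zero, one_mul, mul_assoc], fun x hx => ?_⟩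
  calc _ = g * (g * g * x) * (g ^ 3)⁻¹ := by simp only [pow_succ, pow_zero, one_mul, mul_assoc]
    _ = g * x * g⁻¹ := by rw [F.comm _ h1 _ hx]; group
    _ = _ := h2 x hx

theorem Fr.exists_iv (h : Hy G) (F : Fr P s) {g : G} {k : Fin 4}
    (hc : g * s k * g⁻¹ = (s k)⁻¹) : ∃ i, Iv P i := by
  have := Fact.mk Nat.prime_three
  have le : P ≤ Cs (s k) := fun p hp => mem_Cs.2 (F.comm p hp _ (F.mem k))
  obtain ⟨c, hc', n, hn, rfl⟩ := (F.syl.mono le le_top).frattini (g := g) (mem_Nm fun a ha => by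
    refine mem_Cs.2 (Commute.inv_right_iff.1 (?_ : Commute _ (s k)⁻¹))
    rw [← hc]
    exact Commute.conj (mem_Cs.1 ha) g)
  refine ⟨_, F.iv_of_inv h hn (k := k) ?_⟩
  have : Commute c (s k)⁻¹ := Commute.inv_right (mem_Cs.1 hc')
  calc _ = c⁻¹ * (c * n * s k * (c * n)⁻¹) * c := by group
    _ = _ := by rw [hc, mul_assoc, ← this.eq, inv_mul_cancel_left]

omit [Finite G] in
theorem Fr.zp_eq (F : Fr P s) {g : G} {j k : Fin 4} (hc : g * s k * g⁻¹ ∈ zpowers (s j)) :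
    cj g (zpowers (s k)) = zpowers (s j) := by
  rw [cj_zpowers]
  rcases mem_zpowers_three (F.ord j) hc with e | e | e
  · exact absurd (conj_eq_one_iff.1 e) (ne_one_of_ord (F.ord k))
  · rw [e]
  · rw [e, zpowers_inv]

omit [Finite G] in
theorem Fr.line_inj (F : Fr P s) {g : G} {a b j : Fin 4} (ha : g * s a * g⁻¹ ∈ zpowers (s j))
    (hb : g * s b * g⁻¹ ∈ zpowers (s j)) : a = b := by
  by_contra hn
  exact F.ne a b hn (cj_inj.1 ((F.zp_eq ha).trans (F.zp_eq hb).symm) ▸ mem_zpowers _)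

theorem Fr.not_fix (h : Hy G) (F : Fr P s) {g : G} (hg : g ∈ Nm P) {a b : Fin 4} (hab : a ≠ b)
    (h0 : g * s a * g⁻¹ ∈ zpowers (s b)) (k : Fin 4) : g * s k * g⁻¹ ∉ zpowers (s k) := fun hk => by
  rcases mem_zpowers_three (F.ord k) hk with e | e | e
  · exact absurd (conj_eq_one_iff.1 e) (ne_one_of_ord (F.ord k))
  · rw [F.comm _ (F.mem_of_comm h hg (mul_inv_eq_iff_eq_mul.1 e)) _ (F.mem a),
      mul_inv_cancel_right] at h0
    exact F.ne a b hab h0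
  · rw [(F.inv_all h hg e).2 _ (F.mem a), inv_mem_iff] at h0
    exact F.ne a b hab h0

theorem Fr.sw_of_swap (h : Hy G) (F : Fr P s) {g : G} (hg : g ∈ Nm P)
    (h0 : g * s 0 * g⁻¹ ∈ zpowers (s 1)) (h1 : g * s 1 * g⁻¹ ∈ zpowers (s 0)) :
    Sw P s (g ^ 3) := by
  have nf := F.not_fix h hg (by decide) h0
  have gP : g ∉ P := fun hP => nf 0 (by
    rw [F.comm _ hP _ (F.mem 0), mul_inv_cancel_right]; exact mem_zpowers _)
  have h2 : g * g * s 0 * (g * g)⁻¹ ∈ zpowers (s 0) := by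
    have := conj_mem_cj (g := g).2 h0
    rw [F.zp_eq h1] at this
    convert this using 1; group
  have h3 : g * g * s 0 * (g * g)⁻¹ = (s 0)⁻¹ := by
    rcases mem_zpowers_three (F.ord 0) h2 with e | e | e
    · exact absurd (conj_eq_one_iff.1 e) (ne_one_of_ord (F.ord 0))
    · have hx' := mem_normalizer_conj hg (F.mem 0)
      refine absurd (F.mem_of_comm' h hg (mul_mem (F.mem 0) hx') (fun e' => ?_) ?_) gP
      · rw [eq_inv_of_mul_eq_one_right e', inv_mem_iff] at h0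
        exact F.ne 0 1 (by decide) h0
      · calc _ = g * s 0 * g⁻¹ * (g * g * s 0 * (g * g)⁻¹) * g := by group
          _ = _ := by rw [e, F.comm _ hx' _ (F.mem 0)]
    · exact e
  have i2 := (F.inv_all h (mul_mem hg hg) h3).2
  have key : ∀ j k, g * s k * g⁻¹ ∈ zpowers (s j) → g ^ 3 * s k * (g ^ 3)⁻¹ ∈ zpowers (s j) :=
    fun j k hk => by
      have : g ^ 3 * s k * (g ^ 3)⁻¹ = (g * s k * g⁻¹)⁻¹ := by
        calc _ = g * (g * g * s k * (g * g)⁻¹) * g⁻¹ := by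
              simp only [pow_succ, pow_zero, one_mul, mul_assoc, mul_inv_rev]
          _ = _ := by rw [i2 _ (F.mem k)]; group
      rw [this]; exact inv_mem hk
  refine ⟨?_, pow_mem hg 3, key _ _ h0, key _ _ h1, key _ _ ?_, key _ _ ?_⟩
  · have := F.iv_of_inv h (mul_mem hg hg) h3
    rwa [(Commute.refl g).mul_pow] at this
  · obtain ⟨j, hj, -⟩ := F.exists_line hg 2
    fin_cases j
    · exact absurd (F.line_inj hj h1) (by decide)
    · exact absurd (F.line_inj hj h0) (by decide)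
    · exact absurd hj (nf 2)
    · exact hj
  · obtain ⟨j, hj, -⟩ := F.exists_line hg 3
    fin_cases j
    · exact absurd (F.line_inj hj h1) (by decide)
    · exact absurd (F.line_inj hj h0) (by decide)
    · exact hj
    · exact absurd hj (nf 3)

theorem Fr.trans_V (h : Hy G) (F : Fr P s) {j k : Fin 4} (hjk : j ≠ k) {u v : G}
    (hu : u ∈ Vs (s k)) (hv : v ∈ Vs (s k)) (u1 : u ≠ 1) (v1 : v ≠ 1) :
    ∃ p ∈ zpowers (s j), p * u * p⁻¹ = v := by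
  have n := F.le_Nm_V k (F.mem j)
  have c : ∀ w ∈ Vs (s k), w ≠ 1 → w ≠ s j * w * (s j)⁻¹ := fun w hw w1 e =>
    w1 (F.fpf h hjk hw (eq_mul_inv_iff_mul_eq.1 e))
  have h3 := cube_of_ord (F.ord j)
  rcases four_cases (h.card_le (F.ord k)) hu (mem_normalizer_conj n hu) (mem_normalizer_conj' n hu)
    u1 (fun e => u1 (conj_eq_one_iff.1 e)) (fun e => u1 (conj_eq_one_iff.1 (by rwa [inv_inv]))) (c u hu u1)
    (fun e => c u hu u1 (by rw [e]; nth_rw 1 [← e]; group))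
    (fun e => c _ (mem_normalizer_conj n hu) (fun e => u1 (conj_eq_one_iff.1 e)) (by
      calc _ = (s j)⁻¹ * u * s j := e
        _ = (s j)⁻¹ * s j ^ 3 * u * (s j ^ 3)⁻¹ * s j := by rw [h3]; group
        _ = _ := by simp [pow_succ, mul_assoc])) hv with e | e | e | e
  · exact absurd e v1
  · exact ⟨1, one_mem _, by simp [e]⟩
  · exact ⟨_, mem_zpowers _, e.symm⟩
  · exact ⟨_, inv_mem (mem_zpowers _), by simp [e]⟩

omit [Finite G] in
theorem Iv.not_Ce (h : Hy G) (F : Fr P s) (hi : Iv P i) {k : Fin 4} (hk : Vs (s k) ≠ ⊥) :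
    i ∉ Ce (Vs (s k)) := fun hc => by
  obtain ⟨⟨u, hu⟩, u1⟩ := ne_bot_iff_exists_ne_one.1 hk
  obtain ⟨j, hj⟩ := exists_ne k
  have h1 := mem_Ce.1 hc _ (mem_normalizer_conj (F.le_Nm_V k (F.mem j)) hu)
  have h2 := mem_Ce.1 hc _ hu
  have h3 := hi.inv _ (F.mem j)
  have h4 : s j * u * (s j)⁻¹ = (s j)⁻¹ * u * s j := by
    calc _ = i * (s j * u * (s j)⁻¹) * i⁻¹ := by rw [← h1]; group
      _ = i * s j * i⁻¹ * (i * u * i⁻¹) * (i * s j * i⁻¹)⁻¹ := by group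
      _ = _ := by rw [h3, ← h2]; group
  have h5 : (s j)⁻¹ = s j * s j := by
    rw [inv_eq_iff_mul_eq_one, ← cube_of_ord (F.ord j)]; simp [pow_succ, mul_assoc]
  refine u1 (Subtype.ext (F.fpf h hj hu (Commute.inv_right_iff.1 (?_ : u * _ = _ * u))))
  rw [h5]
  calc _ = s j * ((s j)⁻¹ * u * s j) * s j := by group
    _ = _ := by rw [← h4]; group

theorem Iv.card_fix (h : Hy G) (F : Fr P s) (hi : Iv P i) {k : Fin 4} (hk : Vs (s k) ≠ ⊥) :
    Nat.card (Vs (s k) ⊓ Cs i : Subgroup G) = 2 := by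
  have el := h.el (F.ord k) hk
  have h1 := el.le_sq_fix (hi.nrm_V F k) (hi.sq ▸ one_mem _)
  have h2 := card_dvd_of_le (inf_le_left (a := Vs (s k)) (b := Cs i))
  have h3 : Nat.card (Vs (s k) ⊓ Cs i : Subgroup G) ≠ 4 := fun e => hi.not_Ce h F hk
    (mem_Ce.2 fun a ha => mem_Cs.1 ((eq_of_le_of_card_ge inf_le_left (el.card.trans e.symm).le).ge ha).2)
  rw [el.card] at h2
  have := Nat.le_of_dvd (by decide) h2
  generalize Nat.card (Vs (s k) ⊓ Cs i : Subgroup G) = m at *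
  interval_cases m <;> simp_all

theorem Fr.adj_of_comm (h : Hy G) (F : Fr P s) {j k : Fin 4} (hjk : j ≠ k) {u v : G}
    (hu : u ∈ Vs (s j)) (hv : v ∈ Vs (s k)) (u1 : u ≠ 1) (v1 : v ≠ 1) (hc : u * v = v * u) :
    Vs (s j) ≤ Ce (Vs (s k)) := fun u' hu' => mem_Ce.2 fun v' hv' => by
  by_cases e1 : u' = 1
  · simp [e1]
  by_cases e2 : v' = 1
  · simp [e2]
  obtain ⟨p, hp, rfl⟩ := F.trans_V h hjk.symm hu hu' u1 e1
  obtain ⟨q, hq, rfl⟩ := F.trans_V h hjk hv hv' v1 e2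
  have a := comm_of_mem_zpowers hp (h.comm (F.ord k) hv)
  have b := comm_of_mem_zpowers hq (h.comm (F.ord j) hu')
  have c : Commute v (p * u * p⁻¹) :=
    (Commute.mul_right a hc.symm).mul_right (Commute.inv_right a)
  exact ((Commute.mul_left b.symm c).mul_left (Commute.inv_left b.symm)).eq

theorem Fr.inf_or (h : Hy G) (F : Fr P s) {D : Subgroup G} (hD : P ≤ Nm D) (k : Fin 4) :
    D ⊓ Vs (s k) = ⊥ ∨ Vs (s k) ≤ D := by
  refine or_iff_not_imp_left.2 fun hn v hv => ?_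
  obtain ⟨⟨u, hu⟩, u1⟩ := ne_bot_iff_exists_ne_one.1 hn
  obtain ⟨j, hj⟩ := exists_ne k
  by_cases e : v = 1
  · exact e ▸ one_mem _
  obtain ⟨p, hp, rfl⟩ := F.trans_V h hj hu.2 hv (fun e => u1 (Subtype.ext e)) e
  exact mem_normalizer_conj (hD (zpowers_le.2 (F.mem j) hp)) hu.1

omit [Finite G] in
theorem Fr.not_cyclic (F : Fr P s) : ¬ IsCyclic P := fun hc => by
  obtain ⟨g, hg⟩ := hc.exists_ofOrder_eq_natCard
  have := orderOf_dvd_of_pow_eq_one (Subtype.ext (F.cube g.2) : g ^ 3 = 1)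
  rw [hg, F.card] at this
  omega

omit [Finite G] in
theorem Fr.coprime (F : Fr P s) {D : Subgroup G} (h3 : ¬ 3 ∣ Nat.card D) :
    (Nat.card P).Coprime (Nat.card D) := by
  rw [F.card]
  exact ((Nat.Prime.coprime_iff_not_dvd Nat.prime_three).2 h3).pow_left 2

theorem Fr.eq_iSup (h : Hy G) (F : Fr P s) {D : Subgroup G} (hD : P ≤ Nm D)
    (h3 : ¬ 3 ∣ Nat.card D) : D = ⨆ k, D ⊓ Vs (s k) := by
  have : IsMulCommutative P := ⟨⟨fun a b => Subtype.ext (F.comm _ a.2 _ b.2)⟩⟩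
  refine le_antisymm (Solv.Coprime.le_of_forall_centralizer_singleton F.not_cyclic hD
    (F.coprime h3) fun a ha a1 g hg => ?_) (iSup_le fun _ => inf_le_left)
  have o : ¬ 3 ∣ orderOf g := fun hd => h3 (hd.trans (orderOf_dvd_natCard _ hg.1))
  rcases F.cov a ha with e | ⟨k, rfl | rfl⟩
  · exact absurd e a1
  · exact mem_iSup_of_mem k ⟨hg.1, h.mem_of_coprime (F.ord k) (mem_Cs.1 hg.2) o⟩
  · exact mem_iSup_of_mem k ⟨hg.1, h.mem_of_coprime (F.ord k)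
      (Commute.inv_right_iff.1 (mem_Cs.1 hg.2)) o⟩

theorem Fr.isPGroup (h : Hy G) (F : Fr P s) {D : Subgroup G} (hD : P ≤ Nm D)
    (h3 : ¬ 3 ∣ Nat.card D) : IsPGroup 2 D := by
  have := Fact.mk Nat.prime_three
  refine .of_card (Nat.eq_prime_pow_of_unique_prime_dvd Nat.card_pos.ne' fun {r} hr hd => ?_)
  by_contra r2
  have := Fact.mk hr
  have := Fact.mk Nat.prime_two
  have := F.pgroup.isNilpotent
  obtain ⟨R, le, hR, hi, hP⟩ := Solv.Coprime.exists_invariant_sylow' hD (F.coprime h3)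
    (.inl inferInstance) r
  have : R = ⊥ := by
    rw [F.eq_iSup h hP fun hd => h3 (hd.trans (card_dvd_of_le le)), iSup_eq_bot]
    exact fun k => disjoint_iff.1 (IsPGroup.disjoint_of_ne r 2 r2 _ _ hR (h.V_pgroup (F.ord k)))
  rw [this, relIndex_bot_left] at hi
  exact hi hd

theorem not_three_of_pgroup {D : Subgroup G} (h2 : IsPGroup 2 D) : ¬ 3 ∣ Nat.card D := by
  have := Fact.mk Nat.prime_two
  obtain ⟨n, e⟩ := IsPGroup.iff_card.1 h2
  rw [e]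
  exact fun hd => absurd (Nat.prime_three.dvd_of_dvd_pow hd) (by decide)

theorem Fr.card_eq (h : Hy G) (F : Fr P s) {D : Subgroup G} (hD : P ≤ Nm D)
    (h3 : ¬ 3 ∣ Nat.card D) : Nat.card D = ∏ k, Nat.card (D ⊓ Vs (s k) : Subgroup G) := by
  have := Fact.mk Nat.prime_two
  induction hn : Nat.card D using Nat.strong_induction_on generalizing D with
  | _ n ih =>
  subst hn
  by_cases hb : D = ⊥
  · simp [hb]
  obtain ⟨M, -, lt, hM, cm, mx⟩ := Solv.Coprime.exists_maximal_invariant (A := P) (H := ⊥)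
    (F.isPGroup h hD h3).isNilpotent hD (bot_lt_iff_ne_bot.2 hb)
      fun p _ => cj_eq_self_iff.1 (cj_bot p)
  have nM : D ≤ Nm M := fun d hd => mem_Nm fun a ha => by
    have := mul_mem (cm (commutator_mem_commutator hd (lt.le ha))) ha
    rwa [commutatorElement_def, inv_mul_cancel_right] at this
  obtain ⟨k, hk⟩ : ∃ k, ¬ D ⊓ Vs (s k) ≤ M := by
    by_contra! hh
    exact lt.not_ge ((F.eq_iSup h hD h3).le.trans (iSup_le hh))
  have h1 : Vs (s k) ≤ D := (F.inf_or h hD k).resolve_left fun e => hk (e ▸ bot_le)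
  have h2 : M ⊓ Vs (s k) = ⊥ := (F.inf_or h hM k).resolve_right fun e => hk (inf_le_right.trans e)
  have h4 : M ⊔ Vs (s k) = D := (mx _ le_sup_left (sup_le lt.le h1) fun p hp =>
    nm_sup (hM hp) (F.le_Nm_V k hp)).resolve_left fun e => hk (inf_le_right.trans (e ▸ le_sup_right))
  have h5 : ∀ j, j ≠ k → D ⊓ Vs (s j) = M ⊓ Vs (s j) := fun j hj => by
    refine le_antisymm (fun v hv => ⟨?_, hv.2⟩) (inf_le_inf_right _ lt.le)
    obtain ⟨m, hm, u, hu, rfl⟩ := (mem_sup_nm (h1.trans nM)).1 (h4 ▸ hv.1)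
    have c := h.comm (F.ord j) hv.2
    have a1 : s j * u * (s j)⁻¹ * u⁻¹ ∈ M ⊓ Vs (s k) := by
      refine mem_inf.2 ⟨?_, mul_mem (mem_normalizer_conj (F.le_Nm_V k (F.mem j)) hu) (inv_mem hu)⟩
      have : s j * u * (s j)⁻¹ * u⁻¹ = (s j * m * (s j)⁻¹)⁻¹ * m := by
        calc _ = (s j * m * (s j)⁻¹)⁻¹ * (s j * (m * u)) * (s j)⁻¹ * u⁻¹ := by group
          _ = _ := by rw [← c]; group
      rw [this]
      exact mul_mem (inv_mem (mem_normalizer_conj (hM (F.mem j)) hm)) hm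
    rw [h2, mem_bot, mul_inv_eq_one, mul_inv_eq_iff_eq_mul] at a1
    rw [F.fpf h hj hu a1.symm, mul_one]
    exact hm
  have h6 := ih _ (card_lt_of_lt lt) hM (fun hd => h3 (hd.trans (card_dvd_of_le lt.le))) rfl
  rw [← Finset.mul_prod_erase _ _ (Finset.mem_univ k)] at h6 ⊢
  rw [Finset.prod_congr rfl fun j hj => by rw [h5 j (Finset.ne_of_mem_erase hj)], inf_of_le_right h1,
    ← h4, Solv.card_sup_of_disjoint_of_le_normalizer (h1.trans nM) h2, h6, h2, card_bot, one_mul,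
    mul_comm]

theorem Fr.exists_center (h : Hy G) (F : Fr P s) {D : Subgroup G} (hD : P ≤ Nm D)
    (h2 : IsPGroup 2 D) (h1 : D ≠ ⊥) : ∃ k, Vs (s k) ≠ ⊥ ∧ Vs (s k) ≤ D ∧ D ≤ Ce (Vs (s k)) := by
  have := Fact.mk Nat.prime_two
  have := (nontrivial_iff_ne_bot D).2 h1
  have := h2.center_nontrivial
  obtain ⟨⟨z, hz⟩, z1⟩ := exists_ne (1 : center D)
  have hZ : P ≤ Nm (D ⊓ Ce D) := fun p hp =>
    nm_inf (hD hp) (normalizer_le_normalizer_centralizer D (hD hp))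
  obtain ⟨k, hk⟩ : ∃ k, D ⊓ Ce D ⊓ Vs (s k) ≠ ⊥ := by
    by_contra! hh
    have := F.eq_iSup h hZ (not_three_of_pgroup h2.to_inf_left)
    rw [iSup_eq_bot.2 hh] at this
    exact z1 (Subtype.ext (Subtype.ext (mem_bot.1 (this ▸ (⟨z.2, mem_Ce.2 fun a ha =>
      congrArg Subtype.val (mem_center_iff.1 hz ⟨a, ha⟩)⟩ : (z : G) ∈ D ⊓ Ce D)))))
  have := (F.inf_or h hZ k).resolve_left hk
  exact ⟨k, fun e => hk (by rw [e, inf_bot_eq]), this.trans inf_le_left,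
    Ce_symm (this.trans inf_le_right)⟩

omit [Finite G] in
theorem le_Q0 {j k : Fin 4} (h : Vs (s j) ≤ Ce (Vs (s k))) : Vs (s j) ≤ Q0 s k :=
  le_iSup (fun j : {j : Fin 4 // Vs (s j) ≤ Ce (Vs (s k))} => Vs (s j)) ⟨j, h⟩

omit [Finite G] in
theorem Q0_le {k : Fin 4} {D : Subgroup G} (h : ∀ j, Vs (s j) ≤ Ce (Vs (s k)) → Vs (s j) ≤ D) :
    Q0 s k ≤ D := iSup_le fun j => h j j.2

omit [Finite G] in
theorem Q0_le_Ce (k : Fin 4) : Q0 s k ≤ Ce (Vs (s k)) := Q0_le fun _ h => h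

theorem Fr.syl_Ce (h : Hy G) (F : Fr P s) {k : Fin 4} (hk : Vs (s k) ≠ ⊥) :
    IsSylowIn 3 (zpowers (s k)) (Ce (Vs (s k))) := by
  have := Fact.mk Nat.prime_three
  have h1 := (F.syl.mono (F.le_Nm_V k) le_top).inf_normal_of_le
    (normalizer_le_normalizer_centralizer (Vs (s k))) (centralizer_le_normalizer _)
  obtain ⟨⟨u, hu⟩, u1⟩ := ne_bot_iff_exists_ne_one.1 hk
  rwa [show P ⊓ centralizer (Vs (s k) : Set G) = zpowers (s k) from le_antisymm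
    (fun p hp => by_contra fun hn => u1 (Subtype.ext (F.fpf' h hp.1 hn hu (mem_Ce.1 hp.2 u hu))))
    (zpowers_le.2 ⟨F.mem k, mem_Ce.2 fun a ha => h.comm (F.ord k) ha⟩)] at h1

theorem Fr.not_inv (h : Hy G) (F : Fr P s) {k : Fin 4} (hk : Vs (s k) ≠ ⊥) {g : G}
    (hg : g ∈ Ce (Vs (s k))) : g * s k * g⁻¹ ≠ (s k)⁻¹ := fun hc => by
  obtain ⟨i, hi⟩ := F.exists_iv h hc
  obtain ⟨p, hp, v, hv, e⟩ := F.cent_s h k (g := i * g) (mul_inv_eq_iff_eq_mul.1 (by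
    calc _ = i * (g * s k * g⁻¹) * i⁻¹ := by group
      _ = (i * s k * i⁻¹)⁻¹ := by rw [hc]; group
      _ = _ := by rw [hi.inv _ (F.mem k), inv_inv]))
  have c : p⁻¹ * i ∈ Ce (Vs (s k)) := by
    have := mul_mem (h.V_le_Ce (F.ord k) hv) (inv_mem hg)
    convert this using 1
    rw [eq_mul_inv_iff_mul_eq, mul_assoc, e, inv_mul_cancel_left]
  obtain ⟨⟨u, hu⟩, u1⟩ := ne_bot_iff_exists_ne_one.1 (fun e => by
    have := hi.card_fix h F hk
    rw [e, card_bot] at this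
    omega : Vs (s k) ⊓ Cs i ≠ ⊥)
  have h1 : p ∈ zpowers (s k) := by
    by_contra hn
    refine u1 (Subtype.ext (F.fpf' h hp hn hu.1 ?_))
    have a : Commute u (p⁻¹ * i) := mem_Ce.1 c u hu.1
    have b : Commute u i := mem_Cs.1 hu.2
    have := (a.mul_right b.inv_right).inv_right
    rwa [mul_inv_cancel_right, inv_inv] at this
  refine hi.not_Ce h F hk ((mul_mem_cancel_left (inv_mem ((F.syl_Ce h hk).le h1))).1 c)

theorem Fr.exists_K (h : Hy G) (F : Fr P s) {k : Fin 4} (hk : Vs (s k) ≠ ⊥) :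
    IsPGroup 2 (Q0 s k) ∧ (∀ g ∈ Ce (Vs (s k)), ¬ 3 ∣ orderOf g → g ∈ Q0 s k) ∧
      Nm (Vs (s k)) ≤ Nm (Q0 s k) ∧
      ∀ x ∈ Ce (Vs (s k)), ∀ y ∈ Ce (Vs (s k)), x * y * x⁻¹ * y⁻¹ ∈ Q0 s k := by
  have := Fact.mk Nat.prime_three
  have sy := F.syl_Ce h hk
  obtain ⟨K, k1, k2, k3, k4, k5⟩ := Recog.P43.exists_focal (U := ⊥) sy fun x hx g hg hc => by
    rw [mem_bot, mul_inv_eq_one]
    have n := F.not_inv h hk hg
    rcases mem_zpowers_three (F.ord k) hx with rfl | rfl | rfl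
    · simp
    · rcases mem_zpowers_three (F.ord k) hc with e | e | e
      · exact absurd (conj_eq_one_iff.1 e) (ne_one_of_ord (F.ord k))
      · exact e.symm
      · exact absurd e n
    · rcases mem_zpowers_three (F.ord k) hc with e | e | e
      · exact absurd (inv_eq_one.1 (conj_eq_one_iff.1 e)) (ne_one_of_ord (F.ord k))
      · exact absurd (by rw [← e]; nth_rw 1 [e]; group) n
      · exact e.symm
  have h3 : ¬ 3 ∣ Nat.card K :=
    (sy.inf_normal_of_le k2 k1).eq_bot_iff.1 (eq_bot_iff.2 (inf_comm _ K ▸ k3))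
  have k6 : ∀ g ∈ Ce (Vs (s k)), ¬ 3 ∣ orderOf g → g ∈ K := fun g hg o =>
    k4 g hg ((Nat.Prime.coprime_iff_not_dvd Nat.prime_three).2 o).symm
  have nK : Nm (Vs (s k)) ≤ Nm K := fun g hg => mem_Nm fun a ha =>
    k6 _ (mem_normalizer_conj (normalizer_le_normalizer_centralizer _ hg) (k1 ha)) fun hd =>
      h3 ((((MulAut.conj g).orderOf_eq a) ▸ hd).trans (orderOf_dvd_natCard _ ha))
  have hP := (F.le_Nm_V k).trans nK
  have e : Q0 s k = K := le_antisymm (Q0_le fun j hj v hv => k6 v (hj hv) fun hd => by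
      have := hd.trans (orderOf_dvd_of_pow_eq_one ((sq v).trans (h.sq (F.ord j) hv)))
      omega)
    ((F.eq_iSup h hP h3).le.trans (iSup_le fun j => by
      rcases F.inf_or h hP j with e | e
      · exact e ▸ bot_le
      · exact inf_le_right.trans (le_Q0 (e.trans k1))))
  rw [e]
  exact ⟨F.isPGroup h hP h3, k6, nK, k5⟩

theorem Fr.Q0_pgroup (h : Hy G) (F : Fr P s) {k : Fin 4} (hk : Vs (s k) ≠ ⊥) :
    IsPGroup 2 (Q0 s k) := (F.exists_K h hk).1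

theorem Fr.mem_Q0 (h : Hy G) (F : Fr P s) (_hi : Iv P i) {k : Fin 4}
    (hk : Vs (s k) ≠ ⊥) {g : G} (hg : g ∈ Ce (Vs (s k))) (h3 : ¬ 3 ∣ orderOf g) :
    g ∈ Q0 s k := (F.exists_K h hk).2.1 g hg h3

theorem Fr.Nm_le_Nm_Q0 (h : Hy G) (F : Fr P s) (_hi : Iv P i) {k : Fin 4}
    (hk : Vs (s k) ≠ ⊥) : Nm (Vs (s k)) ≤ Nm (Q0 s k) := (F.exists_K h hk).2.2.1

theorem Fr.cent_V (h : Hy G) (F : Fr P s) (_hi : Iv P i) {k : Fin 4}
    (hk : Vs (s k) ≠ ⊥) : Ce (Vs (s k)) = Q0 s k ⊔ zpowers (s k) := by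
  have := Fact.mk Nat.prime_three
  obtain ⟨-, k1, -, k2⟩ := F.exists_K h hk
  have sy := F.syl_Ce h hk
  refine le_antisymm (fun g hg => ?_) (sup_le (Q0_le_Ce k) sy.le)
  by_cases h3 : 3 ∣ orderOf g
  swap
  · exact mem_sup_left (k1 g hg h3)
  have h6 := h.pow_six h3
  have a : g ^ 3 ∈ Q0 s k := k1 _ (pow_mem hg 3) fun hd => by
    have := hd.trans (orderOf_dvd_of_pow_eq_one (n := 2) (by rw [← pow_mul, h6]))
    omega
  obtain ⟨c, hc, le⟩ := sy.exists_cj_le (Q := zpowers (g ^ 4)) (fun ⟨_, m, rfl⟩ => ⟨1, Subtype.ext (by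
    change ((g ^ 4) ^ m) ^ 3 ^ 1 = 1
    calc _ = (g ^ 6 * g ^ 6) ^ m := by group
      _ = 1 := by rw [h6, one_mul, one_zpow])⟩) (zpowers_le.2 (pow_mem hg 4))
  have b := le (conj_mem_cj.2 (mem_zpowers _))
  have d := k2 c hc _ (pow_mem hg 4)
  have : g = g ^ 3 * ((c * g ^ 4 * c⁻¹ * (g ^ 4)⁻¹)⁻¹ * (c * g ^ 4 * c⁻¹)) := by
    calc _ = g * g ^ 6 := by rw [h6, mul_one]
      _ = _ := by group
  rw [this]
  exact mul_mem (mem_sup_left a) (mul_mem (mem_sup_left (inv_mem d)) (mem_sup_right b))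

theorem Fr.norm_V (h : Hy G) (F : Fr P s) (hi : Iv P i) {k : Fin 4}
    (hk : Vs (s k) ≠ ⊥) {g : G} (hg : g ∈ Nm (Vs (s k))) :
    ∃ q ∈ Q0 s k, ∃ p ∈ P, g = q * p ∨ g = q * p * i := by
  have := Fact.mk Nat.prime_three
  have sy := F.syl_Ce h hk
  have nQ := (F.le_Nm_V k).trans (F.Nm_le_Nm_Q0 h hi hk)
  have lz := zpowers_le.2 (F.mem k)
  obtain ⟨c, hc, n, hn, rfl⟩ := sy.frattini (normalizer_le_normalizer_centralizer _ hg)
  obtain ⟨q, hq, t, ht, rfl⟩ := (mem_sup_nm (lz.trans nQ)).1 (F.cent_V h hi hk ▸ hc)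
  have key : ∀ m, m * s k = s k * m → ∃ q' ∈ Q0 s k, ∃ p ∈ P, q * t * m = q' * p := fun m hm => by
    obtain ⟨p, hp, v, hv, rfl⟩ := F.cent_s h k hm
    have tp := mul_mem (lz ht) hp
    exact ⟨_, mul_mem hq (mem_normalizer_conj (nQ tp) (le_Q0 (h.V_le_Ce (F.ord k)) hv)), _, tp,
      by group⟩
  rcases mem_zpowers_three (F.ord k) (mem_normalizer_conj hn (mem_zpowers _)) with e | e | e
  · exact absurd (conj_eq_one_iff.1 e) (ne_one_of_ord (F.ord k))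
  · obtain ⟨q', hq', p, hp, e'⟩ := key n (mul_inv_eq_iff_eq_mul.1 e)
    exact ⟨q', hq', p, hp, .inl e'⟩
  · obtain ⟨q', hq', p, hp, e'⟩ := key (n * i) (mul_inv_eq_iff_eq_mul.1 (by
      calc _ = n * (i * s k * i⁻¹) * n⁻¹ := by group
        _ = (n * s k * n⁻¹)⁻¹ := by rw [hi.inv _ (F.mem k)]; group
        _ = _ := by rw [e, inv_inv]))
    refine ⟨q', hq', p, hp, .inr ?_⟩
    rw [← e', mul_assoc _ (n * i), mul_assoc n, hi.sq, mul_one]

end Cfsg.Lib.T33
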