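import Cfsg.Agent.T33.Basic
import Cfsg.Agent.Local.ProdCard

/-!
# The diamond: the structure of the product of the four subgroups `V k`
-/

set_option autoImplicit false

namespace Cfsg.Lib.T33.W13

open Subgroup Cfsg.Lib.Trans

universe u

variable {G : Type u} [Group G]

theorem le_or_le {A B X : Subgroup G} (h : ∀ y ∈ X, y ∈ A ∨ y ∈ B) : X ≤ A ∨ X ≤ B := by
  by_contra hh
  obtain ⟨h1, h2⟩ := not_or.1 hh
  obtain ⟨a, ha, na⟩ := SetLike.not_le_iff_exists.1 h1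
  obtain ⟨b, hb, nb⟩ := SetLike.not_le_iff_exists.1 h2
  rcases h _ (mul_mem ha hb) with k | k
  · exact na ((mul_mem_cancel_right ((h b hb).resolve_right nb)).1 k)
  · exact nb ((mul_mem_cancel_left ((h a ha).resolve_left na)).1 k)

theorem Ce_le_Nm (A : Subgroup G) : Ce A ≤ Nm A := centralizer_le_normalizer _

theorem el_sup {A B : Subgroup G} {m n : ℕ} (hA : El A m) (hB : El B n) (hc : B ≤ Ce A)
    (hd : A ⊓ B = ⊥) : El (A ⊔ B) (m * n) := by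
  refine ⟨fun x hx => ?_, ?_⟩
  · obtain ⟨a, ha, b, hb, rfl⟩ := (mem_sup_nm (hc.trans (Ce_le_Nm A))).1 hx
    rw [mul_assoc, ← mul_assoc b, ← mem_Ce.1 (hc hb) a ha, mul_assoc, hB.sq b hb, mul_one,
      hA.sq a ha]
  · have := Local.CD.card_sup_mul_card_inf_of_le_centralizer (Ce_symm hc)
    rwa [hd, card_bot, mul_one, hA.card, hB.card] at this

theorem card_le_two_mul [Finite G] {X Y : Subgroup G}
    (h : ∀ a ∈ X, ∀ b ∈ X, a ∉ Y → b ∉ Y → a * b ∈ Y) :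
    Nat.card X ≤ 2 * Nat.card (X ⊓ Y : Subgroup G) := by
  have h1 : Y.relIndex X ∣ 2 := by
    by_cases k : X ≤ Y
    · rw [relIndex_eq_one.2 k]; exact one_dvd 2
    · obtain ⟨a, ha, na⟩ := SetLike.not_le_iff_exists.1 k
      exact index_dvd_two_iff.2 ⟨⟨a, ha⟩, fun b => or_iff_not_imp_right.2 fun nb => h b b.2 a ha nb na⟩
  have h2 := card_mul_relIndex (show X ⊓ Y ≤ X from inf_le_left)
  rw [inf_relIndex_left] at h2
  rw [← h2, mul_comm]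
  exact Nat.mul_le_mul_right _ (Nat.le_of_dvd two_pos h1)

theorem eq_of_card_two {C : Subgroup G} (h : Nat.card C = 2) {a b : G} (ha : a ∈ C) (hb : b ∈ C)
    (a1 : a ≠ 1) (b1 : b ≠ 1) : a = b := by
  obtain ⟨y, -, hy⟩ := (Nat.card_eq_two_iff' (1 : C)).1 h
  exact congrArg Subtype.val ((hy ⟨a, ha⟩ fun e => a1 (congrArg Subtype.val e)).trans
    (hy ⟨b, hb⟩ fun e => b1 (congrArg Subtype.val e)).symm)

theorem fix_le [Finite G] {Y V : Subgroup G} {n : ℕ} {i j : G} (hX : El (Y ⊔ V) n)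
    (hd : Y ⊓ V = ⊥) (hj : j ∈ Nm Y) (hi : i ∈ Nm V)
    (hv : ∀ v ∈ V, j * v * j⁻¹ * (i * v * i⁻¹)⁻¹ ∈ Y) (h2 : Nat.card (V ⊓ Cs i : Subgroup G) = 2) :
    Nat.card ((Y ⊔ V) ⊓ Cs j : Subgroup G) ≤ 2 * Nat.card (Y ⊓ Cs j : Subgroup G) := by
  have hc : V ≤ Nm Y := fun v hv => mem_Nm fun y hy => by
    rwa [hX.comm v (mem_sup_right hv) y (mem_sup_left hy), mul_inv_cancel_right]
  have k : ∀ x ∈ (Y ⊔ V) ⊓ Cs j, x ∉ Y → ∃ y ∈ Y, ∃ v ∈ V ⊓ Cs i, v ≠ 1 ∧ x = y * v := by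
    intro x hx nx
    obtain ⟨y, hy, v, hv', rfl⟩ := (mem_sup_nm hc).1 hx.1
    refine ⟨y, hy, v, ⟨hv', ?_⟩, fun e => nx (by rwa [e, mul_one]), rfl⟩
    have e : j * (y * v) * j⁻¹ = y * v := mul_inv_eq_iff_eq_mul.2 (mem_Cs.1 hx.2).symm
    have m : i * v * i⁻¹ * v⁻¹ ∈ Y ⊓ V := by
      refine mem_inf.2 ⟨?_, mul_mem (mem_normalizer_conj hi hv') (inv_mem hv')⟩
      have e2 : i * v * i⁻¹ * v⁻¹ =
          (j * v * j⁻¹ * (i * v * i⁻¹)⁻¹)⁻¹ * (j * y * j⁻¹)⁻¹ * (j * (y * v) * j⁻¹ * v⁻¹) := by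
        group
      rw [e2, e, mul_inv_cancel_right]
      exact mul_mem (mul_mem (inv_mem (hv v hv')) (inv_mem (mem_normalizer_conj hj hy))) hy
    rw [hd, mem_bot, mul_inv_eq_one, mul_inv_eq_iff_eq_mul] at m
    exact mem_Cs.2 m.symm
  refine (card_le_two_mul (Y := Y) fun a ha b hb na nb => ?_).trans
    (Nat.mul_le_mul_left 2 (Trans.card_le_of_le fun x hx => ⟨hx.2, hx.1.2⟩))
  obtain ⟨y, hy, v, hv, v1, rfl⟩ := k a ha na
  obtain ⟨y', hy', v', hv', v1', rfl⟩ := k b hb nb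
  obtain rfl := eq_of_card_two h2 hv hv' v1 v1'
  rw [mul_assoc, ← mul_assoc v, hX.comm v (mem_sup_right hv.1) y' (mem_sup_left hy'), mul_assoc,
    hX.sq v (mem_sup_right hv.1), mul_one]
  exact mul_mem hy hy'

/-- The product of the two central subgroups. -/
def Zz (s : Fin 4 → G) : Subgroup G := Vs (s 0) ⊔ Vs (s 1)

/-- The elementary abelian subgroups of order `64`. -/
def Bb (s : Fin 4 → G) (k : Fin 4) : Subgroup G := Zz s ⊔ Vs (s k)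

/-- The product of all four subgroups. -/
def Qq (s : Fin 4 → G) : Subgroup G := ⨆ j, Vs (s j)

/-- The diamond configuration. -/
structure Dm (P : Subgroup G) (s : Fin 4 → G) (e : G) (k l : Fin 4) : Prop where
  hy : Hy G
  F : Fr P s
  iv : Iv P (e * e)
  hV : ∀ j, Vs (s j) ≠ ⊥
  a0 : ∀ j, Vs (s j) ≤ Ce (Vs (s 0))
  a1 : ∀ j, Vs (s j) ≤ Ce (Vs (s 1))
  n : ¬ Vs (s k) ≤ Ce (Vs (s l))
  cov : ∀ j, j = 0 ∨ j = 1 ∨ j = k ∨ j = l
  e0 : cj e (Vs (s 0)) = Vs (s 1)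
  e1 : cj e (Vs (s 1)) = Vs (s 0)
  ek : cj e (Vs (s k)) = Vs (s l)
  el : cj e (Vs (s l)) = Vs (s k)

variable {P : Subgroup G} {s : Fin 4 → G} {e : G} {k l : Fin 4}

theorem V_le_Q (j : Fin 4) : Vs (s j) ≤ Qq s := le_iSup (fun j => Vs (s j)) j

theorem Z_le_B : Zz s ≤ Bb s k := le_sup_left

theorem V_le_B : Vs (s k) ≤ Bb s k := le_sup_right

theorem Z_le_Q : Zz s ≤ Qq s := sup_le (V_le_Q 0) (V_le_Q 1)

theorem B_le_Q : Bb s k ≤ Qq s := sup_le Z_le_Q (V_le_Q k)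

theorem Q0_le_Q (j : Fin 4) : Q0 s j ≤ Qq s := Q0_le fun m _ => V_le_Q m

theorem nm_all {g : G} (h : ∀ j, g ∈ Nm (Vs (s j))) :
    g ∈ Nm (Zz s) ∧ (∀ j, g ∈ Nm (Bb s j)) ∧ g ∈ Nm (Qq s) :=
  ⟨nm_sup (h 0) (h 1), fun j => nm_sup (nm_sup (h 0) (h 1)) (h j), cj_eq_self_iff.1 (by
    rw [Qq, cj_iSup]; exact iSup_congr fun j => cj_eq_of_mem_normalizer (h j))⟩

theorem trans2 [Finite G] (h : Hy G) (F : Fr P s) {a b : Fin 4} (ab : a ≠ b) {u u' v v' : G}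
    (hu : u ∈ Vs (s a)) (hu' : u' ∈ Vs (s a)) (hv : v ∈ Vs (s b)) (hv' : v' ∈ Vs (s b))
    (u1 : u ≠ 1) (u1' : u' ≠ 1) (v1 : v ≠ 1) (v1' : v' ≠ 1) :
    ∃ p ∈ P, p * u * p⁻¹ = u' ∧ p * v * p⁻¹ = v' := by
  obtain ⟨p, hp, e1⟩ := F.trans_V h ab.symm hu hu' u1 u1'
  obtain ⟨q, hq, e2⟩ := F.trans_V h ab hv hv' v1 v1'
  have c1 := comm_of_mem_zpowers hq (h.comm (F.ord a) hu)
  have c2 := comm_of_mem_zpowers hp (h.comm (F.ord b) hv')
  refine ⟨p * q, mul_mem (zpowers_le_of_mem (F.mem b) hp) (zpowers_le_of_mem (F.mem a) hq), ?_, ?_⟩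
  · calc p * q * u * (p * q)⁻¹ = p * (q * u * q⁻¹) * p⁻¹ := by group
      _ = u' := by rw [← c1, mul_inv_cancel_right, e1]
  · calc p * q * v * (p * q)⁻¹ = p * (q * v * q⁻¹) * p⁻¹ := by group
      _ = v' := by rw [e2, ← c2, mul_inv_cancel_right]

namespace Dm

variable (d : Dm P s e k l)
include d

theorem symm : Dm P s e l k :=
  ⟨d.hy, d.F, d.iv, d.hV, d.a0, d.a1, fun h => d.n (Ce_symm h),
    fun j => by rcases d.cov j with h | h | h | h <;> simp [h], d.e0, d.e1, d.el, d.ek⟩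

theorem elV (j : Fin 4) : El (Vs (s j)) 4 := d.hy.el (d.F.ord j) (d.hV j)

theorem kl : k ≠ l := by
  rintro rfl
  exact d.n (d.elV k).le_Ce

theorem V_le_CZ (j : Fin 4) : Vs (s j) ≤ Ce (Zz s) :=
  Ce_symm (sup_le (Ce_symm (d.a0 j)) (Ce_symm (d.a1 j)))

theorem Q_le_CZ : Qq s ≤ Ce (Zz s) := iSup_le d.V_le_CZ

theorem zc {z q : G} (hz : z ∈ Zz s) (hq : q ∈ Qq s) : z * q = q * z := mem_Ce.1 (d.Q_le_CZ hq) z hz

theorem nmP {p : G} (hp : p ∈ P) : p ∈ Nm (Zz s) ∧ (∀ j, p ∈ Nm (Bb s j)) ∧ p ∈ Nm (Qq s) :=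
  nm_all fun j => d.F.le_Nm_V j hp

theorem nmi : e * e ∈ Nm (Zz s) ∧ (∀ j, e * e ∈ Nm (Bb s j)) ∧ e * e ∈ Nm (Qq s) :=
  nm_all fun j => d.iv.nrm_V d.F j

theorem eZ : cj e (Zz s) = Zz s := by rw [Zz, cj_sup, d.e0, d.e1, sup_comm]

theorem elZ : El (Zz s) 16 :=
  el_sup (d.elV 0) (d.elV 1) (d.a0 1) (d.F.V_inf d.hy (by decide))

variable [Finite G]

theorem Z_inf : Zz s ⊓ Vs (s k) = ⊥ :=
  (d.F.inf_or d.hy (fun _ hp => (d.nmP hp).1) k).resolve_right fun h =>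
    d.n (h.trans (Ce_symm (d.V_le_CZ l)))

theorem elB : El (Bb s k) 64 := el_sup d.elZ (d.elV k) (d.V_le_CZ k) d.Z_inf

theorem B_inf : Bb s k ⊓ Vs (s l) = ⊥ :=
  (d.F.inf_or d.hy (fun _ hp => (d.nmP hp).2.1 k) l).resolve_right fun h =>
    d.n (Ce_symm (h.trans (d.elB.le_Ce.trans (centralizer_le V_le_B))))

omit [Finite G] in
theorem Q_eq : Qq s = Bb s k ⊔ Vs (s l) := le_antisymm (iSup_le fun j => by
    rcases d.cov j with rfl | rfl | rfl | rfl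
    exacts [le_sup_of_le_left (le_sup_left.trans Z_le_B),
      le_sup_of_le_left (le_sup_right.trans Z_le_B), le_sup_of_le_left V_le_B, le_sup_right])
  (sup_le B_le_Q (V_le_Q l))

omit [Finite G] in
theorem eQ : e ∈ Nm (Qq s) := cj_eq_self_iff.1 (by
  rw [d.Q_eq, Bb, cj_sup, cj_sup, d.eZ, d.ek, d.el, sup_right_comm])

theorem pgQ : IsPGroup 2 (Qq s) :=
  (d.F.Q0_pgroup d.hy (d.hV 0)).to_le (iSup_le fun j => le_Q0 (d.a0 j))

theorem cent_B : Ce (Bb s k) ≤ Bb s k := fun g hg => by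
  refine Q0_le (fun j hj => ?_) (d.F.mem_Q0 d.hy d.iv (d.hV k) (centralizer_le V_le_B hg)
    (d.hy.not_three_dvd d.elB (by norm_num) hg))
  rcases d.cov j with rfl | rfl | rfl | rfl
  exacts [le_sup_left.trans Z_le_B, le_sup_right.trans Z_le_B, V_le_B, absurd (Ce_symm hj) d.n]

theorem V_nm_B : Vs (s l) ≤ Nm (Bb s k) := by
  have lt : Bb s k < Qq s := lt_of_le_of_ne B_le_Q fun h =>
    d.hV l (by rw [← d.B_inf, h]; exact (inf_eq_right.2 (V_le_Q l)).symm)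
  have hP : P ≤ Nm (Qq s ⊓ Nm (Bb s k)) := fun p hp =>
    nm_inf (d.nmP hp).2.2 (cj_eq_self_iff.1 (by
      rw [cj_normalizer, cj_eq_of_mem_normalizer ((d.nmP hp).2.1 k)]))
  rcases d.F.inf_or d.hy hP l with h | h
  · refine absurd ?_ (lt_inf_normalizer d.pgQ lt).not_ge
    rw [d.F.eq_iSup d.hy hP (not_three_of_pgroup (d.pgQ.to_le inf_le_left))]
    refine iSup_le fun j => ?_
    rcases d.cov j with rfl | rfl | rfl | rfl
    exacts [inf_le_right.trans (le_sup_left.trans Z_le_B),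
      inf_le_right.trans (le_sup_right.trans Z_le_B), inf_le_right.trans V_le_B, h.le.trans bot_le]
  · exact h.trans inf_le_right

theorem Q_nm_B : Qq s ≤ Nm (Bb s k) := d.Q_eq.le.trans (sup_le le_normalizer d.V_nm_B)

omit [Finite G] in
theorem decB {x : G} (hx : x ∈ Bb s k) : ∃ z ∈ Zz s, ∃ u ∈ Vs (s k), x = z * u :=
  (mem_sup_nm ((d.V_le_CZ k).trans (Ce_le_Nm _))).1 hx

theorem dec {q : G} (hq : q ∈ Qq s) :
    ∃ z ∈ Zz s, ∃ u ∈ Vs (s k), ∃ v ∈ Vs (s l), q = z * u * v := by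
  rw [d.Q_eq] at hq
  obtain ⟨x, hx, v, hv, rfl⟩ := (mem_sup_nm d.V_nm_B).1 hq
  obtain ⟨z, hz, u, hu, rfl⟩ := d.decB hx
  exact ⟨z, hz, u, hu, v, hv, rfl⟩

theorem BB {x : G} (h1 : x ∈ Bb s k) (h2 : x ∈ Bb s l) : x ∈ Zz s := by
  obtain ⟨z, hz, u, hu, rfl⟩ := d.decB h1
  have : u ∈ Bb s l ⊓ Vs (s k) := ⟨(mul_mem_cancel_left (Z_le_B hz)).1 h2, hu⟩
  rw [d.symm.B_inf, mem_bot] at this
  rwa [this, mul_one]

theorem comm_mem {q v : G} (hq : q ∈ Qq s) (hv : v ∈ Vs (s k)) : q * v * q⁻¹ * v⁻¹ ∈ Zz s := by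
  refine d.BB (mul_mem (mem_normalizer_conj (d.Q_nm_B hq) (V_le_B hv)) (inv_mem (V_le_B hv))) ?_
  obtain ⟨z, hz, u, hu, w, hw, rfl⟩ := d.symm.dec hq
  have c := (d.elV k).comm w hw v hv
  have e : z * u * w * v * (z * u * w)⁻¹ * v⁻¹ = z * u * (v * (z * u)⁻¹ * v⁻¹) := by
    rw [mul_assoc _ w v, c]; group
  have m := mul_mem (Z_le_B hz) (V_le_B hu)
  rw [e]
  exact mul_mem m (mem_normalizer_conj (d.symm.Q_nm_B (V_le_Q k hv)) (inv_mem m))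

omit [Finite G] in
theorem sq_eq {z u v : G} (hz : z ∈ Zz s) (hu : u ∈ Vs (s k)) (hv : v ∈ Vs (s l)) :
    z * u * v * (z * u * v) = u * v * (u * v) := by
  have c := d.zc hz (mul_mem (V_le_Q k hu) (V_le_Q l hv))
  calc z * u * v * (z * u * v) = z * (u * v * z) * (u * v) := by group
    _ = z * z * (u * v * (u * v)) := by rw [← c]; group
    _ = _ := by rw [d.elZ.sq z hz, one_mul]

theorem sq_ne {u v : G} (hu : u ∈ Vs (s k)) (hv : v ∈ Vs (s l)) (u1 : u ≠ 1) (v1 : v ≠ 1) :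
    u * v * (u * v) ≠ 1 := fun h => by
  refine d.n (d.F.adj_of_comm d.hy d.kl hu hv u1 v1 ?_)
  rw [eq_inv_of_mul_eq_one_left h, mul_inv_rev, (d.elV k).inv_eq hu, (d.elV l).inv_eq hv]

theorem inv_mem_B {q : G} (hq : q ∈ Qq s) (h2 : q * q = 1) : q ∈ Bb s k ∨ q ∈ Bb s l := by
  obtain ⟨z, hz, u, hu, v, hv, rfl⟩ := d.dec hq
  rw [d.sq_eq hz hu hv] at h2
  by_cases v1 : v = 1
  · exact Or.inl (by rw [v1, mul_one]; exact mul_mem (Z_le_B hz) (V_le_B hu))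
  by_cases u1 : u = 1
  · exact Or.inr (by rw [u1, mul_one]; exact mul_mem (Z_le_B hz) (V_le_B hv))
  exact absurd h2 (d.sq_ne hu hv u1 v1)

theorem sq_V {a b : Fin 4} (ab : a ≠ b) (he : cj e (Vs (s a)) = Vs (s b)) {q : G} (hq : q ∈ Qq s)
    (h : q * q ∈ Vs (s a)) : q * q = 1 := by
  obtain ⟨z, hz, u, hu, v, hv, rfl⟩ := d.dec hq
  rw [d.sq_eq hz hu hv] at h ⊢
  by_cases v1 : v = 1
  · rw [v1, mul_one, (d.elV k).sq u hu]
  by_cases u1 : u = 1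
  · rw [u1, one_mul, (d.elV l).sq v hv]
  have hu' : e * u * e⁻¹ ∈ Vs (s l) := d.ek ▸ conj_mem_cj.2 hu
  have hv' : e * v * e⁻¹ ∈ Vs (s k) := d.el ▸ conj_mem_cj.2 hv
  obtain ⟨p, hp, e1, e2⟩ := trans2 d.hy d.F d.kl hu hv' hv hu' u1 (by simpa using v1) v1
    (by simpa using u1)
  have m : p * (u * v * (u * v)) * p⁻¹ ∈ Vs (s a) ⊓ Vs (s b) := by
    refine ⟨mem_normalizer_conj (d.F.le_Nm_V a hp) h, ?_⟩
    have e3 : p * (u * v * (u * v)) * p⁻¹ = e * (u * v * (u * v))⁻¹ * e⁻¹ := by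
      calc _ = p * u * p⁻¹ * (p * v * p⁻¹) * (p * u * p⁻¹ * (p * v * p⁻¹)) := by group
        _ = e * (v * u * (v * u)) * e⁻¹ := by rw [e1, e2]; group
        _ = _ := by
          simp only [mul_inv_rev, (d.elV k).inv_eq hu, (d.elV l).inv_eq hv]
    rw [e3, ← he]
    exact conj_mem_cj.2 (inv_mem h)
  rw [d.F.V_inf d.hy ab, mem_bot] at m
  simpa using m

theorem exists_sq {z : G} (hz : z ∈ Zz s) (n0 : z ∉ Vs (s 0)) (n1 : z ∉ Vs (s 1)) :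
    ∃ q ∈ Qq s, q * q = z := by
  have dz : ∀ y ∈ Zz s, y ∉ Vs (s 0) → y ∉ Vs (s 1) →
      ∃ a ∈ Vs (s 0), ∃ b ∈ Vs (s 1), a ≠ 1 ∧ b ≠ 1 ∧ y = a * b := fun y hy m0 m1 => by
    obtain ⟨a, ha, b, hb, rfl⟩ := (mem_sup_nm ((d.a0 1).trans (Ce_le_Nm _))).1 hy
    exact ⟨a, ha, b, hb, fun h => m1 (by rwa [h, one_mul]), fun h => m0 (by rwa [h, mul_one]), rfl⟩
  obtain ⟨⟨u, hu⟩, u1⟩ := ne_bot_iff_exists_ne_one.1 (d.hV k)
  obtain ⟨⟨v, hv⟩, v1⟩ := ne_bot_iff_exists_ne_one.1 (d.hV l)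
  have ne := d.sq_ne hu hv (fun h => u1 (Subtype.ext h)) fun h => v1 (Subtype.ext h)
  have hq := mul_mem (V_le_Q k hu) (V_le_Q l hv)
  have m := d.symm.comm_mem (V_le_Q k hu) hv
  rw [(d.elV k).inv_eq hu, (d.elV l).inv_eq hv, mul_assoc (u * v)] at m
  obtain ⟨a, ha, b, hb, a1, b1, e1⟩ := dz _ m (fun h => ne (d.sq_V (by decide) d.e0 hq h))
    fun h => ne (d.sq_V (by decide) d.e1 hq h)
  obtain ⟨a', ha', b', hb', a1', b1', rfl⟩ := dz z hz n0 n1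
  obtain ⟨p, hp, e2, e3⟩ := trans2 d.hy d.F (show (0 : Fin 4) ≠ 1 by decide) ha ha' hb hb' a1 a1'
    b1 b1'
  refine ⟨p * (u * v) * p⁻¹, mem_normalizer_conj (d.nmP hp).2.2 hq, ?_⟩
  rw [conj_mul, e1, ← conj_mul, e2, e3]

/-- The normalizer of `Q` permutes the two central subgroups. -/
theorem nmQ {g : G} (hg : g ∈ Nm (Qq s)) : g ∈ Nm (Vs (s 0)) ∨ e * g ∈ Nm (Vs (s 0)) := by
  have k : ∀ y ∈ cj g (Vs (s 0)), y ∈ Vs (s 0) ∨ y ∈ Vs (s 1) := fun y hy => by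
    have hx := mem_cj.1 hy
    have c : y ∈ Ce (Qq s) := mem_Ce.2 fun q hq => by
      have := d.zc (mem_sup_left hx) (mem_normalizer_conj' hg hq)
      calc q * y = g * (g⁻¹ * q * g * (g⁻¹ * y * g)) * g⁻¹ := by group
        _ = y * q := by rw [← this]; group
    have hz := d.BB (d.cent_B (centralizer_le B_le_Q c)) (d.symm.cent_B (centralizer_le B_le_Q c))
    by_contra hh
    obtain ⟨q, hq, rfl⟩ := d.exists_sq hz (not_or.1 hh).1 (not_or.1 hh).2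
    have e1 : g⁻¹ * (q * q) * g = g⁻¹ * q * g * (g⁻¹ * q * g) := by group
    have := d.sq_V (by decide) d.e0 (mem_normalizer_conj' hg hq) (e1 ▸ hx)
    rw [← e1] at this
    have e2 : q * q = 1 := by
      calc q * q = g * (g⁻¹ * (q * q) * g) * g⁻¹ := by group
        _ = 1 := by rw [this]; group
    exact hh (Or.inl (e2 ▸ one_mem _))
  exact (le_or_le k).imp mem_normalizer_of_cj_le fun h => mem_normalizer_of_cj_le (by
    rw [cj_mul]; exact (cj_mono e h).trans d.e1.le)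

theorem fix_B {q : G} (hq : q ∈ Qq s) :
    Nat.card (Bb s k ⊓ Cs (q * (e * e)) : Subgroup G) ≤ 8 := by
  have nZ := mul_mem (Ce_le_Nm _ (d.Q_le_CZ hq)) d.nmi.1
  have nv := d.iv.nrm_V d.F
  have h1 := fix_le d.elB d.Z_inf nZ (nv k) (fun v hv => by
    have := d.comm_mem hq (mem_normalizer_conj (nv k) hv)
    rwa [show q * (e * e) * v * (q * (e * e))⁻¹ = q * (e * e * v * (e * e)⁻¹) * q⁻¹ by group])
    (d.iv.card_fix d.hy d.F (d.hV k))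
  have n0 : q ∈ Ce (Vs (s 0)) := centralizer_le (le_sup_left (b := Vs (s 1))) (d.Q_le_CZ hq)
  have h2 := fix_le d.elZ (d.F.V_inf d.hy (by decide)) (mul_mem (Ce_le_Nm _ n0) (nv 0)) (nv 1)
    (fun v hv => by
      have := d.zc (mem_sup_right (mem_normalizer_conj (nv 1) hv)) hq
      rw [show q * (e * e) * v * (q * (e * e))⁻¹ = q * (e * e * v * (e * e)⁻¹) * q⁻¹ by group,
        ← this, mul_inv_cancel_right, mul_inv_cancel]
      exact one_mem _) (d.iv.card_fix d.hy d.F (d.hV 1))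
  have h3 : Vs (s 0) ⊓ Cs (q * (e * e)) ≤ Vs (s 0) ⊓ Cs (e * e) := fun v hv => ⟨hv.1, mem_Cs.2 (by
    have := mem_Cs.1 hv.2
    rw [← mul_assoc, mem_Ce.1 n0 v hv.1, mul_assoc, mul_assoc q] at this
    exact mul_left_cancel this)⟩
  have h4 := Trans.card_le_of_le h3
  rw [d.iv.card_fix d.hy d.F (d.hV 0)] at h4
  change Nat.card (Bb s k ⊓ _ : Subgroup G) ≤ _ at h1
  change Nat.card (Zz s ⊓ _ : Subgroup G) ≤ _ at h2
  omega

end Dm

end Cfsg.Lib.T33.W13
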