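import Cfsg.Agent.T33.Basic
import Cfsg.Agent.T33.Std1

/-!
# At most two `E₁₆` in a Sylow subgroup of `2⁴ : A₆`
-/

set_option autoImplicit false

namespace Cfsg.Lib.T33

open Subgroup Cfsg.Lib.Trans Equiv

universe u

variable {G : Type u} [Group G]

namespace S2

def x0 : Perm (Fin 6) := swap 0 1 * swap 2 3
def y1 : Perm (Fin 6) := swap 0 2 * swap 1 3
def y2 : Perm (Fin 6) := swap 0 1 * swap 4 5
def sg : Perm (Fin 6) := swap 0 1 * swap 0 2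

/-- The four-group on the first four points. -/
def F : List (Perm (Fin 6)) := [1, x0, y1, x0 * y1]

theorem sg_three : sg.IsThreeCycle :=
  Perm.isThreeCycle_swap_mul_swap_same (by decide) (by decide) (by decide)

theorem f2 : ∀ y : Perm (Fin 6), y * y = 1 → y * x0 = x0 * y → Perm.sign y = 1 →
    y ∈ F ∨ y = y2 ∨ x0 * y = y2 := by
  decide +kernel

theorem f3 : ∀ a b : Fin 6, a ≠ b → ∀ c, a ≠ c → b ≠ c → ∀ d, a ≠ d → b ≠ d → c ≠ d →
    (swap a b * swap c d ∈ F ∧ swap a c * swap b d ∈ F) ∨ ∃ u ∈ F,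
      ∃ v ∈ [swap a b * swap c d, swap a c * swap b d],
      (∀ i, u (v (u (v (u (v i))))) = i) ∧ ∃ i, u (v i) ≠ i := by
  decide +kernel

theorem F_mul : ∀ π ∈ F, ∀ κ ∈ F, π * κ ∈ F := by decide +kernel

theorem eq_of_two [Finite G] {H K : Subgroup G} (le : H ≤ K) (h4 : Nat.card K = 4) {a b : G}
    (ha : a ∈ H) (hb : b ∈ H) (a1 : a ≠ 1) (b1 : b ≠ 1) (ab : a ≠ b) : H = K := by
  have h3 : 3 ≤ Nat.card H := by
    rw [← SetLike.coe_sort_coe, Nat.card_coe_set_eq,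
      ← Set.ncard_eq_three.2 ⟨1, a, b, a1.symm, b1.symm, ab, rfl⟩]
    exact Set.ncard_le_ncard (by simp [Set.insert_subset_iff, ha, hb])
  have hd := card_dvd_of_le le
  rw [h4] at hd
  have := Nat.le_of_dvd four_pos hd
  refine eq_of_le_of_card_ge le ?_
  generalize Nat.card H = n at *
  interval_cases n <;> simp_all

/-- A fixed point free element of order three is conjugate to its translates. -/
theorem exists_conj3 {A : Subgroup G} {n : ℕ} (hA : El A n) {s a : G} (hs : s ∈ Nm A)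
    (s3 : s ^ 3 = 1) (ha : a ∈ A) (h : (a * s) ^ 3 = 1) : ∃ b ∈ A, b * (a * s) * b⁻¹ = s := by
  have hb := mem_normalizer_conj hs ha
  refine ⟨_, hb, ?_⟩
  rw [hA.inv_eq hb, ← mul_assoc _ a s, hA.comm _ hb _ ha]
  calc _ = (a * s) ^ 3 * (s ^ 3)⁻¹ * s := by simp only [pow_succ]; group
    _ = s := by rw [h, s3]; group

variable {A N B : Subgroup G} {ψ : N →* Perm (Fin 6)} {g g' a : G} {π κ : Perm (Fin 6)}

/-- `g` induces the permutation `π`. -/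
def Pr (ψ : N →* Perm (Fin 6)) (g : G) (π : Perm (Fin 6)) : Prop := ∃ hg : g ∈ N, ψ ⟨g, hg⟩ = π

theorem pr (ψ : N →* Perm (Fin 6)) (hg : g ∈ N) : Pr ψ g (ψ ⟨g, hg⟩) := ⟨hg, rfl⟩

theorem Pr.mul (h : Pr ψ g π) (h' : Pr ψ g' κ) : Pr ψ (g * g') (π * κ) := by
  obtain ⟨m, rfl⟩ := h
  obtain ⟨m', rfl⟩ := h'
  exact ⟨mul_mem m m', map_mul ψ ⟨g, m⟩ ⟨g', m'⟩⟩

theorem Pr.inv (h : Pr ψ g π) : Pr ψ g⁻¹ π⁻¹ := by
  obtain ⟨m, rfl⟩ := h
  exact ⟨inv_mem m, map_inv ψ ⟨g, m⟩⟩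

theorem Pr.pow (h : Pr ψ g π) (n : ℕ) : Pr ψ (g ^ n) (π ^ n) := by
  obtain ⟨m, rfl⟩ := h
  exact ⟨pow_mem m n, map_pow ψ ⟨g, m⟩ n⟩

theorem Pr.uniq (h : Pr ψ g π) (h' : Pr ψ g κ) : π = κ := h.2.symm.trans h'.2

theorem Pr.congr (h : Pr ψ g π) (e : π = κ) : Pr ψ g κ := e ▸ h

theorem pr_one (h : Std A N ψ) : Pr ψ g 1 ↔ g ∈ A :=
  ⟨fun k => (h.ker _).1 k.2, fun k => ⟨h.le k, (h.ker _).2 k⟩⟩

theorem Pr.nm (k : Pr ψ g π) (h : Std A N ψ) : g ∈ Nm A := h.nrm k.1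

theorem Pr.not_mem (k : Pr ψ g π) (h : Std A N ψ) (h1 : π ≠ 1) : g ∉ A := fun m =>
  h1 (k.uniq ((pr_one h).2 m))

theorem Pr.div (k : Pr ψ g π) (k' : Pr ψ g' π) (h : Std A N ψ) : g * g'⁻¹ ∈ A :=
  (pr_one h).1 ((k.mul k'.inv).congr (mul_inv_cancel π))

theorem exists_pr (h : Std A N ψ) (hπ : Perm.sign π = 1) : ∃ g, Pr ψ g π :=
  let ⟨g, e⟩ := Std1.lift h (Perm.mem_alternatingGroup.2 hπ); ⟨g, g.2, e⟩

theorem Pr.fpf (k : Pr ψ g π) (h : Std A N ψ) (h3 : π.IsThreeCycle) (ha : a ∈ A)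
    (e : a * g = g * a) : a = 1 := h.fpf ⟨g, k.1⟩ (k.2 ▸ h3) a ha e

theorem Pr.comm (k : Pr ψ g π) (k' : Pr ψ g' π) (h : Std A N ψ) (ha : a ∈ A)
    (e : a * g = g * a) : a * g' = g' * a := by
  have := h.el.comm _ ha _ (k'.div k h)
  calc a * g' = a * (g' * g⁻¹) * g := by group
    _ = g' * a := by rw [this, mul_assoc, e]; group

theorem pr_cj {τ : Perm (Fin 6)} :
    Pr ((MulAut.conj τ).toMonoidHom.comp ψ) g π ↔ Pr ψ g (τ⁻¹ * π * τ) :=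
  exists_congr fun _ => by
    simp only [MonoidHom.comp_apply, MulEquiv.coe_toMonoidHom, MulAut.conj_apply]
    constructor
    · rintro rfl
      group
    · intro e
      rw [e]
      group

theorem std_cj (h : Std A N ψ) (τ : Perm (Fin 6)) :
    Std A N ((MulAut.conj τ).toMonoidHom.comp ψ) :=
  ⟨h.el, h.cent, h.le, h.nrm, h.odd, fun g => by simp [← h.ker g], by
    rw [MonoidHom.range_comp, h.range]
    exact cj_eq_of_normal τ _, fun g k => h.fpf g (by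
      simpa [mul_assoc] using Std1.three_conj k τ⁻¹)⟩

theorem exists_ge [Finite G] (h : Std A N ψ) {S : Subgroup G} (hS : IsPGroup 2 S)
    (le : S ≤ Nm A) : ∃ (N' : Subgroup G) (ψ' : N' →* Perm (Fin 6)), Std A N' ψ' ∧ S ≤ N' := by
  obtain ⟨x, hx, e⟩ := Std1.move h hS le
  have m : ∀ g : cj x⁻¹ N, x * g * x⁻¹ ∈ N := fun g => mem_cj_inv.1 g.2
  let f : cj x⁻¹ N →* N := ((MulAut.conj x).toMonoidHom.comp (Subgroup.subtype _)).codRestrict N m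
  have hf : ∀ g, (f g : G) = x * g * x⁻¹ := fun _ => rfl
  have e1 : cj x⁻¹ A = A := cj_eq_of_mem_normalizer (inv_mem hx)
  have e2 : cj x⁻¹ (Nm A) = Nm A := cj_eq_of_mem (inv_mem hx)
  refine ⟨cj x⁻¹ N, ψ.comp f, ⟨h.el, h.cent, e1 ▸ cj_mono _ h.le, e2 ▸ cj_mono _ h.nrm, ?_,
    fun g => ?_, ?_, fun g k a ha c => ?_⟩, cj_le_iff_le_cj_inv.1 e⟩
  · rw [← e2, relIndex_cj]
    exact h.odd
  · rw [MonoidHom.comp_apply, h.ker, hf, ← mem_cj_inv, e1]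
  · rw [MonoidHom.range_comp, MonoidHom.range_eq_top.2 fun g =>
      ⟨⟨x⁻¹ * g * x⁻¹⁻¹, conj_mem_cj.2 g.2⟩, Subtype.ext (by rw [hf]; group)⟩,
      ← MonoidHom.range_eq_map, h.range]
  · have := h.fpf (f g) k _ (mem_normalizer_conj hx ha) (by rw [hf, conj_mul, conj_mul, c])
    simpa using this

variable [Finite G]

omit [Finite G] in
theorem card_le (h : Std A N ψ) (le : B ≤ N) {l : List (Perm (Fin 6))}
    (hl : ∀ b ∈ B, ∃ π ∈ l, Pr ψ b π) :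
    Nat.card B ≤ Nat.card (A ⊓ B : Subgroup G) * l.length := by
  have e : (ψ.comp (inclusion le)).ker = A.subgroupOf B := by
    ext b
    exact h.ker _
  rw [← card_mul_relIndex (inf_le_right : A ⊓ B ≤ B), inf_relIndex_right, relIndex, ← e, index_ker]
  refine Nat.mul_le_mul_left _ ?_
  rw [← SetLike.coe_sort_coe, Nat.card_coe_set_eq]
  refine (Set.ncard_le_ncard (t := (l.toFinset : Set _)) ?_).trans ?_
  · rintro _ ⟨b, rfl⟩
    obtain ⟨π, m, k⟩ := hl b b.2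
    exact List.mem_toFinset.2 (k.2 ▸ m : ψ ⟨b, k.1⟩ ∈ l)
  · rw [Set.ncard_coe_finset]
    exact l.toFinset_card_le

/-- `a` is fixed by the four-group. -/
def CF (ψ : N →* Perm (Fin 6)) (a : G) : Prop := ∀ g, ∀ π ∈ F, Pr ψ g π → a * g = g * a

omit [Finite G] in
theorem CF.conj (c : CF ψ a) {r : G} (k : Pr ψ r sg) : CF ψ (r * a * r⁻¹) := fun g π m l => by
  have := c _ _ ((by decide +kernel : ∀ π ∈ F, sg⁻¹ * π * sg ∈ F) π m) ((k.inv.mul l).mul k)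
  calc r * a * r⁻¹ * g = r * (a * (r⁻¹ * g * r)) * r⁻¹ := by group
    _ = _ := by rw [this]; group

theorem cf_of (h : Std A N ψ) (k : Pr ψ g x0) (ha : a ∈ A) (e : a * g = g * a) : CF ψ a := by
  obtain ⟨y, ky⟩ := exists_pr h (π := y1) (by simp [y1])
  obtain ⟨r, kr⟩ := exists_pr h (π := sg) (by simp [sg])
  have cf : ∀ c ∈ A ⊓ Cs g ⊓ Cs y, CF ψ c := fun c ⟨⟨hc, c1⟩, c2⟩ g' π m l => by
    have d1 := mem_Cs.1 c1
    have d2 := mem_Cs.1 c2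
    simp only [F, List.mem_cons, List.not_mem_nil, or_false] at m
    rcases m with rfl | rfl | rfl | rfl
    exacts [h.el.comm _ hc _ ((pr_one h).1 l), k.comm l h hc d1, ky.comm l h hc d2,
      (k.mul ky).comm l h hc (by rw [← mul_assoc, d1, mul_assoc, d2, mul_assoc])]
  have c4 := h.free (k.nm h) (k.not_mem h (by decide))
    ((pr_one h).1 ((k.mul k).congr (by decide)))
  have c2 := El.le_sq_fix (A := A ⊓ Cs g) ⟨fun a ha => h.el.sq a ha.1, c4⟩ (j := y)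
    (mem_Nm fun c hc => ⟨mem_normalizer_conj (ky.nm h) hc.1, mem_Cs.2 (by
      have := k.comm (((ky.inv.mul k).mul ky).congr (by decide)) h hc.1 (mem_Cs.1 hc.2)
      calc y * c * y⁻¹ * g = y * (c * (y⁻¹ * g * y)) * y⁻¹ := by group
        _ = _ := by rw [this]; group)⟩)
    (mem_Ce.2 fun c hc => h.el.comm _ hc.1 _ ((pr_one h).1 ((ky.mul ky).congr (by decide))))
  obtain ⟨⟨c, hc⟩, c1⟩ := (ne_bot_iff_exists_ne_one (H := A ⊓ Cs g ⊓ Cs y)).1 fun e => by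
    simp [e] at c2
  replace c1 : c ≠ 1 := fun e => c1 (Subtype.ext e)
  have c3 := (cf c hc).conj kr
  refine cf a ((eq_of_two inf_le_left c4 hc (b := r * c * r⁻¹)
    ⟨⟨mem_normalizer_conj (kr.nm h) hc.1.1, mem_Cs.2 (c3 _ _ (by simp [F]) k)⟩,
      mem_Cs.2 (c3 _ _ (by simp [F]) ky)⟩ c1 (by simpa using c1) fun e => c1 ?_).ge
    ⟨ha, mem_Cs.2 e⟩)
  exact kr.fpf h sg_three hc.1.1 (by rw [eq_mul_inv_iff_mul_eq] at e; exact e)

/-- The position of a second `E₁₆`. -/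
structure Sh (A : Subgroup G) (ψ : N →* Perm (Fin 6)) (B : Subgroup G) : Prop where
  mem : ∀ b ∈ B, ∃ π ∈ F, Pr ψ b π
  ex : ∀ π ∈ F, ∃ b ∈ B, Pr ψ b π
  card : Nat.card (A ⊓ B : Subgroup G) = 4
  cent : ∀ b ∈ B, b ∉ A → A ⊓ Cs b = A ⊓ B

theorem shape (h : Std A N ψ) (hB : El B 16) (le : B ≤ N) (ne : B ≠ A) :
    ∃ τ, Sh A ((MulAut.conj τ).toMonoidHom.comp ψ) B := by
  obtain ⟨b, hb, bA⟩ := SetLike.not_le_iff_exists.1 fun e : B ≤ A =>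
    ne (eq_of_le_of_card_ge e (by rw [hB.card, h.el.card]))
  have sq : ∀ {ψ : N →* Perm (Fin 6)} {b π}, b ∈ B → Pr ψ b π → π * π = 1 := fun hb k =>
    (k.mul k).uniq (hB.sq _ hb ▸ ⟨one_mem _, map_one _⟩)
  obtain ⟨τ, -, hτ⟩ := Std1.conj_inv (Std1.mem_alt h ⟨b, le hb⟩) (fun e => bA ((h.ker _).1 e))
    (sq hb (pr ψ (le hb))) (k := x0) (by simp [x0]) (by decide) (by decide)
  refine ⟨τ, ?_⟩
  have k : Pr ((MulAut.conj τ).toMonoidHom.comp ψ) b x0 := ⟨le hb, hτ⟩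
  replace h := std_cj h τ
  generalize (MulAut.conj τ).toMonoidHom.comp ψ = ψ at h k
  have six : ∀ c ∈ B, ∃ π, Pr ψ c π ∧ (π ∈ F ∨ π = y2 ∨ x0 * π = y2) := fun c hc =>
    ⟨_, pr ψ (le hc), f2 _ (sq hc (pr ψ (le hc))) (((pr ψ (le hc)).mul k).uniq
      (hB.comm _ hc _ hb ▸ k.mul (pr ψ (le hc)))) (Std1.mem_alt h _)⟩
  have fr : ∀ c ∈ B, c ∉ A → A ⊓ B ≤ A ⊓ Cs c ∧ Nat.card (A ⊓ Cs c : Subgroup G) = 4 :=
    fun c hc cA => ⟨inf_le_inf_left _ fun d hd => mem_Cs.2 (hB.comm _ hd _ hc),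
      h.free (h.nrm (le hc)) cA (hB.sq c hc ▸ one_mem A)⟩
  have c4 : Nat.card (A ⊓ B : Subgroup G) = 4 := by
    have h1 := card_le h le (l := F ++ [y2, x0⁻¹ * y2]) fun c hc => by
      obtain ⟨π, l, m⟩ := six c hc
      exact ⟨π, by simpa [eq_inv_mul_iff_mul_eq] using m, l⟩
    have h2 := card_dvd_of_le (fr b hb bA).1
    rw [(fr b hb bA).2] at h2
    have := Nat.le_of_dvd four_pos h2
    rw [hB.card] at h1
    generalize Nat.card (A ⊓ B : Subgroup G) = n at *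
    interval_cases n <;> simp_all [F]
  have ce : ∀ c ∈ B, c ∉ A → A ⊓ Cs c = A ⊓ B := fun c hc cA =>
    (eq_of_le_of_card_ge (fr c hc cA).1 (by rw [c4, (fr c hc cA).2])).symm
  have n2 : ∀ c ∈ B, ¬ Pr ψ c y2 := fun c hc l => by
    obtain ⟨r, kr⟩ := exists_pr h (π := sg) (by simp [sg])
    obtain ⟨⟨a, ha⟩, a1⟩ := (ne_bot_iff_exists_ne_one (H := A ⊓ B)).1 fun e => by simp [e] at c4
    have m := mem_normalizer_conj (kr.nm h) ha.1
    have h1 := hB.comm _ ((ce b hb bA).le ⟨m, mem_Cs.2 (((cf_of h k ha.1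
      (hB.comm _ ha.2 _ hb)).conj kr) _ _ (by simp [F]) k)⟩).2 _ hc
    have h2 := (l.mul ((kr.mul l).mul kr.inv)).fpf h
      ((by decide : sg = y2 * (sg * y2 * sg⁻¹)) ▸ sg_three) m (by
        rw [← mul_assoc, h1, mul_assoc, conj_mul, hB.comm _ ha.2 _ hc, ← conj_mul, mul_assoc c])
    exact a1 (Subtype.ext (by simpa using h2))
  have mem : ∀ c ∈ B, ∃ π ∈ F, Pr ψ c π := fun c hc => by
    obtain ⟨π, l, m | rfl | m⟩ := six c hc
    exacts [⟨π, m, l⟩, absurd l (n2 c hc), absurd ((k.mul l).congr m) (n2 _ (mul_mem hb hc))]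
  obtain ⟨c, hc, l⟩ : ∃ c ∈ B, Pr ψ c y1 := by
    by_contra hn
    push Not at hn
    have h1 := card_le h le (l := [1, x0]) fun c hc => by
      obtain ⟨π, m, l⟩ := mem c hc
      simp only [F, List.mem_cons, List.not_mem_nil, or_false] at m
      rcases m with rfl | rfl | rfl | rfl
      exacts [⟨_, by simp, l⟩, ⟨_, by simp, l⟩, absurd l (hn c hc),
        absurd ((k.inv.mul l).congr (inv_mul_cancel_left _ _)) (hn _ (mul_mem (inv_mem hb) hc))]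
    rw [c4, hB.card] at h1
    simp at h1
  refine ⟨mem, fun π m => ?_, c4, ce⟩
  simp only [F, List.mem_cons, List.not_mem_nil, or_false] at m
  rcases m with rfl | rfl | rfl | rfl
  exacts [⟨1, one_mem _, (pr_one h).2 (one_mem _)⟩, ⟨b, hb, k⟩, ⟨c, hc, l⟩,
    ⟨_, mul_mem hb hc, k.mul l⟩]

omit [Finite G] in
theorem Sh.mem_sup (k : Sh A ψ B) (h : Std A N ψ) (l : Pr ψ g π) (m : π ∈ F) : g ∈ A ⊔ B := by
  obtain ⟨b, hb, l'⟩ := k.ex π m
  simpa using mul_mem (mem_sup_left (l.div l' h)) (mem_sup_right hb : b ∈ A ⊔ B)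

omit [Finite G] in
theorem Sh.inv (k : Sh A ψ B) (hA : El A 16) (hB : El B 16) (hBN : B ≤ Nm A) {x : G}
    (hx : x ∈ A ⊔ B) (x2 : x * x = 1) : x ∈ A ∨ x ∈ B := by
  obtain ⟨a, ha, b, hb, rfl⟩ := (mem_sup_nm hBN).1 hx
  by_cases bA : b ∈ A
  · exact .inl (mul_mem ha bA)
  refine .inr (mul_mem ((k.cent b hb bA).le ⟨ha, mem_Cs.2 ?_⟩).2 hb)
  rw [← mul_eq_one_iff_eq_inv.1 x2 |>.symm, _root_.mul_inv_rev, hA.inv_eq ha, hB.inv_eq hb]

omit [Finite G] in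
theorem le_of_or {B' : Subgroup G} (h : ∀ x ∈ B', x ∈ A ∨ x ∈ B) (ne : ¬ B' ≤ A) : B' ≤ B := by
  obtain ⟨b, hb, bA⟩ := SetLike.not_le_iff_exists.1 ne
  intro x hx
  refine (h x hx).elim (fun xA => ?_) id
  have := (h _ (mul_mem hx hb)).resolve_left fun e => bA ((mul_mem_cancel_left xA).1 e)
  exact (mul_mem_cancel_right ((h b hb).resolve_left bA)).1 this

theorem El.not_le {n : ℕ} (hA : El A n) (hB : El B n) (ne : B ≠ A) : ¬ B ≤ A := fun e =>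
  ne (eq_of_le_of_card_ge e (by rw [hB.card, hA.card]))

theorem Sh.eq (k : Sh A ψ B) (h : Std A N ψ) (hB : El B 16) (le : B ≤ N) {B' : Subgroup G}
    (hB' : El B' 16) (ne : B' ≠ A) (hm : ∀ b ∈ B', ∃ π ∈ F, Pr ψ b π) : B = B' :=
  (eq_of_le_of_card_ge (le_of_or (fun x hx => let ⟨_, m, l⟩ := hm x hx
    k.inv h.el hB (le.trans h.nrm) (k.mem_sup h l m) (hB'.sq x hx)) (El.not_le h.el hB' ne))
    (by rw [hB.card, hB'.card])).symm

theorem Sh.nm (k : Sh A ψ B) (h : Std A N ψ) (hB : El B 16) (le : B ≤ N) (ne : B ≠ A)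
    (l : Pr ψ g π) (hπ : ∀ κ ∈ F, π * κ * π⁻¹ ∈ F) : g ∈ Nm B :=
  cj_eq_self_iff.1 (k.eq h hB le (hB.conj g)
    (fun e => ne (cj_injective g (e.trans (cj_eq_of_mem_normalizer (l.nm h)).symm))) fun b hb => by
      obtain ⟨κ, m, l'⟩ := k.mem _ (mem_cj.1 hb)
      exact ⟨_, hπ κ m, by simpa [mul_assoc] using (l.mul l').mul l.inv⟩).symm

end S2

open S2

variable [Finite G] {A N : Subgroup G} {ψ : N →* Equiv.Perm (Fin 6)}

theorem Std.two (h : Std A N ψ) {B : Subgroup G} (hB : El B 16) (hBN : B ≤ Nm A) (ne : B ≠ A) :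
    Nat.card (A ⊓ B : Subgroup G) = 4 ∧ (∀ b ∈ B, b ∉ A → A ⊓ Cs b = A ⊓ B) ∧ A ≤ Nm B ∧
      (∀ x ∈ A ⊔ B, x * x = 1 → x ∈ A ∨ x ∈ B) ∧
      ∃ r m : G, orderOf r = 3 ∧ r ∈ Nm A ∧ r ∈ Nm B ∧ (∀ x ∈ A ⊔ B, x * r = r * x → x = 1) ∧
        m ∈ Nm A ∧ m ∈ Nm B ∧ m * r * m⁻¹ = r⁻¹ := by
  obtain ⟨N, ψ, h, le⟩ := exists_ge h hB.pgroup hBN
  obtain ⟨τ, k⟩ := shape h hB le ne
  replace h := std_cj h τ
  generalize (MulAut.conj τ).toMonoidHom.comp ψ = ψ at h k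
  have hA : A ≤ Nm B := fun a ha => k.nm h hB le ne ((pr_one h).2 ha) (by simp)
  obtain ⟨r0, k0⟩ := exists_pr h (π := sg) (by simp [sg])
  obtain ⟨m, km⟩ := exists_pr h (π := y2) (by simp [y2])
  have kr : Pr ψ (r0 ^ 4) sg := (k0.pow 4).congr (by decide)
  have r3 : (r0 ^ 4) ^ 3 = 1 := by
    have := h.el.sq _ ((pr_one h).1 ((k0.pow 3).congr (by decide)))
    rw [← pow_mul, show 4 * 3 = (3 + 3) * 2 from rfl, pow_mul, pow_add, this, one_pow]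
  generalize r0 ^ 4 = r at kr r3
  have ha : m * r * m⁻¹ * r⁻¹⁻¹ ∈ A :=
    (((km.mul kr).mul km.inv).congr (by decide)).div kr.inv h
  obtain ⟨b, hb, e⟩ := exists_conj3 h.el (inv_mem (kr.nm h)) (by rw [inv_pow, r3, inv_one]) ha
    (by rw [inv_mul_cancel_right, conj_pow, r3]; group)
  refine ⟨k.card, k.cent, hA, fun x => k.inv h.el hB hBN, r, b * m,
    ord_three r3 fun e => kr.not_mem h (by decide) (e ▸ one_mem A), kr.nm h,
    k.nm h hB le ne kr (by decide +kernel), fun x hx c => ?_, mul_mem (le_normalizer hb) (km.nm h),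
    mul_mem (hA hb) (k.nm h hB le ne km (by decide +kernel)), by rw [← e]; group⟩
  obtain ⟨a, ha, b, hb, rfl⟩ := (mem_sup_nm hBN).1 hx
  obtain ⟨π, m, l⟩ := k.mem b hb
  replace l := (((pr_one h).2 ha).mul l).congr (one_mul π)
  obtain rfl := (by decide +kernel : ∀ π ∈ F, π * sg = sg * π → π = 1) π m
    ((l.mul kr).uniq (c ▸ kr.mul l))
  exact kr.fpf h sg_three ((pr_one h).1 l) c

theorem Std.uniq (h : Std A N ψ) {S B B' : Subgroup G} (hS : IsPGroup 2 S) (hSN : S ≤ Nm A)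
    (hB : El B 16) (hB' : El B' 16) (le : B ≤ S) (le' : B' ≤ S) (ne : B ≠ A) (ne' : B' ≠ A) :
    B = B' := by
  obtain ⟨N, ψ, h, hN⟩ := exists_ge h hS hSN
  obtain ⟨τ, k⟩ := shape h hB (le.trans hN) ne
  replace h := std_cj h τ
  generalize (MulAut.conj τ).toMonoidHom.comp ψ = ψ at h k
  obtain ⟨τ, k'⟩ := shape h hB' (le'.trans hN) ne'
  have e : ∀ a b c d : Fin 6, τ⁻¹ * (swap a b * swap c d) * τ =
      swap (τ⁻¹ a) (τ⁻¹ b) * swap (τ⁻¹ c) (τ⁻¹ d) := fun a b c d => by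
    rw [swap_apply_apply, swap_apply_apply]
    group
  have n : ∀ a b : Fin 6, a ≠ b → τ⁻¹ a ≠ τ⁻¹ b := fun a b e => τ⁻¹.injective.ne e
  rcases f3 _ _ (n 0 1 (by decide)) _ (n 0 2 (by decide)) (n 1 2 (by decide)) _
    (n 0 3 (by decide)) (n 1 3 (by decide)) (n 2 3 (by decide)) with
    ⟨h1, h2⟩ | ⟨u, hu, v, hv, h1, i, h2⟩
  · refine k.eq h hB (le.trans hN) hB' ne' fun b hb => ?_
    obtain ⟨π, m, l⟩ := k'.mem b hb
    refine ⟨_, ?_, pr_cj.1 l⟩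
    rw [← e] at h1 h2
    simp only [F, List.mem_cons, List.not_mem_nil, or_false] at m
    rcases m with rfl | rfl | rfl | rfl
    exacts [by simp [F], h1, h2, by simpa [mul_assoc, x0, y1] using F_mul _ h1 _ h2]
  · obtain ⟨b, hb, l⟩ := k.ex u hu
    obtain ⟨b', hb', l'⟩ : ∃ b' ∈ B', Pr ψ b' v := by
      simp only [List.mem_cons, List.not_mem_nil, or_false, ← e] at hv
      rcases hv with rfl | rfl
      exacts [let ⟨b, hb, l⟩ := k'.ex x0 (by simp [F]); ⟨b, hb, pr_cj.1 l⟩,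
        let ⟨b, hb, l⟩ := k'.ex y1 (by simp [F]); ⟨b, hb, pr_cj.1 l⟩]
    obtain ⟨n, hn⟩ := hS ⟨_, mul_mem (le hb) (le' hb')⟩
    have h3 : (u * v) ^ 2 ^ n = 1 := ((l.mul l').pow _).uniq
      ((show (b * b') ^ 2 ^ n = 1 from congrArg Subtype.val hn) ▸ (pr_one h).2 (one_mem A))
    have h4 : (u * v) ^ 3 = 1 := Equiv.ext h1
    have h5 := (pow_gcd_eq_one.2 ⟨h3, h4⟩)
    rw [Nat.Coprime.pow_left n (by decide), pow_one] at h5
    exact absurd (congrArg (· i) h5) h2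

end Cfsg.Lib.T33
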